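import Cfsg.Agent.Lib.BrauerSuzuki.Product
import Cfsg.Agent.Lib.Blocks.SecondMain
import Cfsg.Agent.Lib.Blocks.Misc
import Cfsg.Agent.Lib.Char.Integral

/-!
The Z*-theorem.
-/

set_option autoImplicit false
set_option linter.style.haveILetI false
set_option linter.unusedSectionVars false

namespace Cfsg.Agent.BrauerSuzuki

open Cfsg Cfsg.Agent.Char Cfsg.Agent.Blocks
open scoped ComplexConjugate

universe u

variable {G : Type u} [Group G]

/-- The sign character of a subgroup of index two. -/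
theorem irr_of_kernel [Fintype G] (χ : IrrCharacter G) {u : G}
    (hN : ∀ N : Subgroup G, N.Normal → u ∈ N → N = ⊤)
    (hu : orderOf u = 2) (hχ : χ ≠ Char.principal G)
    (hsq : (χ : G → ℂ) u ^ 2 = (χ : G → ℂ) 1 ^ 2) :
    ∃ K : Subgroup G, K.Normal ∧ K.index = 2 ∧ u ∉ K ∧
      (∀ g ∈ K, (χ : G → ℂ) g = 1) ∧ ∀ g, g ∉ K → (χ : G → ℂ) g = -1 := by
  classical
  obtain ⟨K, hK, hmem, htr⟩ := Cfsg.Agent.Char.IsCharacter.exists_kernel (irr_isCharacter χ)
  have hd := irr_one_ne_zero χ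
  have huK : u ∉ K := by
    intro h
    have htop := hN K hK h
    refine hd ?_
    have h1 := classInner_irr_of_ne χ.2 isIrrCharacter_one (fun e => hχ (Subtype.ext e))
    have hconst : ∀ g, (χ : G → ℂ) g = (χ : G → ℂ) 1 :=
      fun g => (hmem g).1 (htop ▸ Subgroup.mem_top g)
    simp only [Cfsg.classInner, hconst, map_one, mul_one, Finset.sum_const, Finset.card_univ,
      nsmul_eq_mul, ← Nat.card_eq_fintype_card] at h1
    rwa [← mul_assoc, inv_mul_cancel₀ (Nat.cast_ne_zero.2 Nat.card_pos.ne'), one_mul] at h1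
  have hneg : (χ : G → ℂ) u = -(χ : G → ℂ) 1 := by
    rcases sq_eq_sq_iff_eq_or_eq_neg.1 hsq with e | e
    · exact absurd ((hmem u).2 e) huK
    · exact e
  have hu2 : u * u = 1 := by rw [← pow_two, ← hu]; exact pow_orderOf_eq_one u
  haveI := hK
  obtain ⟨n, ρ, -, hρe⟩ := χ.2
  have hscal : ∀ g : G, g * u * g⁻¹ * u⁻¹ ∈ K := by
    intro g
    have hn : ‖ρ.character u‖ = (Module.finrank ℂ (Fin n → ℂ) : ℝ) := by
      rw [hρe, hneg, norm_neg, ← hρe, Representation.char_one]
      simp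
    obtain ⟨ω, hω⟩ := (Cfsg.Agent.Char.norm_char_eq_iff ρ u).1 hn
    have hgu : ρ g * ρ u = ρ u * ρ g := by
      ext x; simp [hω]
    rw [hmem, ← hρe]
    show LinearMap.trace ℂ _ (ρ _) = LinearMap.trace ℂ _ (ρ _)
    congr 1
    rw [map_mul, map_mul, map_mul, hgu, mul_assoc (ρ u), ← map_mul, mul_inv_cancel, map_one,
      mul_one, ← map_mul, mul_inv_cancel, map_one]
  have hcen : (u : G ⧸ K) ∈ Subgroup.center (G ⧸ K) := by
    rw [Subgroup.mem_center_iff]
    intro x
    induction x using QuotientGroup.induction_on with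
    | _ g =>
      have h1 := hscal g
      rw [← QuotientGroup.eq_one_iff, QuotientGroup.mk_mul, QuotientGroup.mk_mul,
        QuotientGroup.mk_mul, QuotientGroup.mk_inv, QuotientGroup.mk_inv] at h1
      exact mul_inv_eq_iff_eq_mul.1 (mul_inv_eq_one.1 h1)
  have hLn : ((Subgroup.zpowers (u : G ⧸ K)).comap (QuotientGroup.mk' K)).Normal := by
    refine Subgroup.Normal.comap ⟨fun y hy g => ?_⟩ _
    have hyc : y ∈ Subgroup.center (G ⧸ K) := Subgroup.zpowers_le.2 hcen hy
    rwa [Subgroup.mem_center_iff.1 hyc g, mul_inv_cancel_right]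
  have hLtop := hN _ hLn (Subgroup.mem_zpowers _)
  have hdich : ∀ g, g ∈ K ∨ ∃ n ∈ K, g = n * u := by
    intro g
    have hg : (g : G ⧸ K) ∈ Subgroup.zpowers (u : G ⧸ K) :=
      (hLtop ▸ Subgroup.mem_top g : g ∈ (Subgroup.zpowers (u : G ⧸ K)).comap (QuotientGroup.mk' K))
    rw [← mem_powers_iff_mem_zpowers] at hg
    obtain ⟨i, hi⟩ := hg
    have hu2' : (u : G ⧸ K) * (u : G ⧸ K) = 1 := by rw [← QuotientGroup.mk_mul, hu2]; rfl
    rcases Nat.even_or_odd' i with ⟨j, rfl | rfl⟩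
    · left
      rw [← QuotientGroup.eq_one_iff, ← hi]
      simp only [pow_mul, pow_two, hu2', one_pow]
    · right
      refine ⟨g * u⁻¹, ?_, (inv_mul_cancel_right g u).symm⟩
      rw [← QuotientGroup.eq_one_iff, QuotientGroup.mk_mul, ← hi, QuotientGroup.mk_inv]
      simp only [pow_succ, pow_mul, pow_two, hu2', one_pow, pow_zero, one_mul, mul_inv_cancel]
  have hone : ∀ g ∈ K, (χ : G → ℂ) g = (χ : G → ℂ) 1 := fun g hg => (hmem g).1 hg
  have hmone : ∀ g, g ∉ K → (χ : G → ℂ) g = -(χ : G → ℂ) 1 := by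
    intro g hg
    obtain ⟨n, hn, rfl⟩ := (hdich g).resolve_left hg
    rw [htr n hn, hneg]
  have hd1 : (χ : G → ℂ) 1 = 1 := by
    have h1 := classInner_self_irr χ.2
    have hterm : ∀ g, (χ : G → ℂ) g * conj ((χ : G → ℂ) g) = (χ : G → ℂ) 1 * (χ : G → ℂ) 1 := by
      intro g
      by_cases h : g ∈ K
      · rw [hone g h, conj_irr_one]
      · rw [hmone g h, map_neg, conj_irr_one, neg_mul_neg]
    simp only [Cfsg.classInner, hterm, Finset.sum_const, Finset.card_univ, nsmul_eq_mul,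
      ← Nat.card_eq_fintype_card] at h1
    rw [← mul_assoc, inv_mul_cancel₀ (Nat.cast_ne_zero.2 Nat.card_pos.ne'), one_mul,
      irr_one_eq_charDegree] at h1
    have h2 : charDegree (χ : G → ℂ) * charDegree (χ : G → ℂ) = 1 := by exact_mod_cast h1
    rw [irr_one_eq_charDegree, Nat.eq_one_of_mul_eq_one_left h2, Nat.cast_one]
  refine ⟨K, hK, ?_, huK, fun g hg => (hone g hg).trans hd1, fun g hg => ?_⟩
  · refine Subgroup.index_eq_two_iff.2 ⟨u, fun g => ?_⟩
    rcases hdich g with h | ⟨n, hn, rfl⟩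
    · exact Or.inr ⟨h, fun h' => huK (by simpa using mul_mem (inv_mem h) h')⟩
    · refine Or.inl ⟨by rwa [mul_assoc, hu2, mul_one], fun h' => huK ?_⟩
      simpa using mul_mem (inv_mem hn) h'
  · rw [hmone g hg, hd1]

/-- Any two subgroups of index two avoiding `u` agree. -/
theorem eq_of_index_two {u : G} (hN : ∀ N : Subgroup G, N.Normal → u ∈ N → N = ⊤) {K K' : Subgroup G}
    (hK : K.Normal) (hK' : K'.Normal) (hi : K.index = 2) (hi' : K'.index = 2) (huK : u ∉ K)
    (huK' : u ∉ K') : K = K' := by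
  let L : Subgroup G :=
    { carrier := {g | g ∈ K ↔ g ∈ K'}
      one_mem' := iff_of_true (one_mem K) (one_mem K')
      mul_mem' := fun {x y} (hx : x ∈ K ↔ x ∈ K') (hy : y ∈ K ↔ y ∈ K') => by
        show x * y ∈ K ↔ x * y ∈ K'
        rw [Subgroup.mul_mem_iff_of_index_two hi, Subgroup.mul_mem_iff_of_index_two hi', hx, hy]
      inv_mem' := fun {x} (hx : x ∈ K ↔ x ∈ K') => by
        show x⁻¹ ∈ K ↔ x⁻¹ ∈ K'
        rw [inv_mem_iff, inv_mem_iff, hx] }
  have hLn : L.Normal := ⟨fun x (hx : x ∈ K ↔ x ∈ K') g => by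
    show g * x * g⁻¹ ∈ K ↔ g * x * g⁻¹ ∈ K'
    exact ⟨fun h => hK'.conj_mem x (hx.1 (by simpa [mul_assoc] using hK.conj_mem _ h g⁻¹)) g,
      fun h => hK.conj_mem x (hx.2 (by simpa [mul_assoc] using hK'.conj_mem _ h g⁻¹)) g⟩⟩
  have htop := hN L hLn (iff_of_false huK huK')
  ext g
  exact (htop ▸ Subgroup.mem_top g : g ∈ L)

variable [Fintype G]

/-- The character theoretic core: a contradiction. -/
theorem false_of_isolated {u t : G} (h : IsIsolated u) (hu : orderOf u = 2) (ht : orderOf t = 2)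
    (hne : t ≠ u) (htu : Commute t u)
    (hN : ∀ N : Subgroup G, N.Normal → u ∈ N → N = ⊤)
    (hZ : ∀ z ∈ Subgroup.center G, orderOf z ≠ 2)
    (ih : ∀ H : Subgroup G, H ≠ ⊤ → ∀ x : H, orderOf x = 2 → IsIsolated x → InZStar 2 x) :
    False := by
  classical
  haveI : Fact (Nat.Prime 2) := ⟨Nat.prime_two⟩
  obtain ⟨M, hM⟩ := GlaubermanMod.exists_isPModular 2
  haveI := hM.2.1
  set B := principalBlock M G with hBdef
  have hu2 : u * u = 1 := by rw [← pow_two, ← hu]; exact pow_orderOf_eq_one u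
  have hvo : ∀ s : G, orderOf s = 2 → s ≠ u → Commute s u →
      orderOf (u * s) = 2 ∧ u * s ≠ u ∧ Commute (u * s) u := by
    intro s hs hsu hc
    have hs2 : s * s = 1 := by rw [← pow_two, ← hs]; exact pow_orderOf_eq_one s
    refine ⟨orderOf_eq_prime ?_ ?_, fun e => ?_, (Commute.refl u).mul_left hc⟩
    · rw [pow_two, hc.mul_mul_mul_comm, hu2, hs2, one_mul]
    · intro e
      have := eq_inv_of_mul_eq_one_right e
      rw [inv_eq_of_mul_eq_one_right hu2] at this
      exact hsu this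
    · rw [mul_eq_left] at e; simp [e] at hs
  have hsection : ∀ s : G, orderOf s = 2 → s ≠ u → Commute s u → ∀ χ ∈ B,
      (χ : G → ℂ) u * (χ : G → ℂ) s = (χ : G → ℂ) 1 * (χ : G → ℂ) (u * s) := by
    intro s hs hsu hc χ hχ
    refine irr_mul_of_const χ u s fun x y hx hy => ?_
    obtain ⟨a, rfl⟩ := isConj_iff.1 hx
    obtain ⟨f, rfl⟩ := isConj_iff.1 hy
    obtain ⟨g, c, r, hprod, hc', hr, hrc, hxc, hinv⟩ := product_form h hu hs hsu hc a f
    have hcf := IsCharacter.isClassFunction (irr_isCharacter χ)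
    rw [hprod]
    set x := a * u * a⁻¹ with hxdef
    set C := Subgroup.centralizer ({c} : Set G) with hC
    haveI : Fintype C := Fintype.ofFinite _
    have hCtop : C ≠ ⊤ := by
      intro e
      refine hZ c (Subgroup.mem_center_iff.2 fun q => ?_) ?_
      · exact Subgroup.mem_centralizer_singleton_iff.1
          (show q ∈ C by rw [e]; exact Subgroup.mem_top q)
      · rw [hc', orderOf_conj_eq, (hvo s hs hsu hc).1]
    have hxC : x ∈ C := Subgroup.mem_centralizer_singleton_iff.2 hxc.eq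
    have hrC : r ∈ C := Subgroup.mem_centralizer_singleton_iff.2 hrc.eq
    have hxo : orderOf (⟨x, hxC⟩ : C) = 2 := by
      rw [← Subgroup.orderOf_coe]
      exact (orderOf_conj_eq a u).trans hu
    have hz := ih C hCtop ⟨x, hxC⟩ hxo (iso_subgroup (hxdef ▸ iso_conj h a) C hxC)
    haveI : (pPrimeCore 2 C).Normal := Cfsg.Agent.FittingCores.pPrimeCore_normal 2
    have hr2 : (⟨r, hrC⟩ : C) ^ 2 ∈ pPrimeCore 2 C := by
      have e : (⟨r, hrC⟩ : C) * ⟨x, hxC⟩ * ⟨r, hrC⟩⁻¹ * ⟨x, hxC⟩⁻¹ = (⟨r, hrC⟩ : C) ^ 2 := by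
        apply Subtype.ext
        simp only [Subgroup.coe_mul, Subgroup.coe_inv, SubmonoidClass.coe_pow]
        have : x * r⁻¹ * x⁻¹ = r := by rw [← conj_inv, hinv, inv_inv]
        calc r * x * r⁻¹ * x⁻¹ = r * (x * r⁻¹ * x⁻¹) := by group
          _ = r ^ 2 := by rw [this, pow_two]
      exact e ▸ hz ⟨r, hrC⟩
    have hrN : (⟨r, hrC⟩ : C) ∈ pPrimeCore 2 C := by
      obtain ⟨j, hj⟩ : Odd (orderOf (⟨r, hrC⟩ : C)) := by
        rw [← Subgroup.orderOf_coe]
        exact Nat.not_even_iff_odd.1 fun h => hr h.two_dvd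
      have e : (⟨r, hrC⟩ : C) = ((⟨r, hrC⟩ : C) ^ 2) ^ (j + 1) := by
        rw [← pow_mul, show 2 * (j + 1) = orderOf (⟨r, hrC⟩ : C) + 1 by omega, pow_succ,
          pow_orderOf_eq_one, one_mul]
      rw [e]; exact pow_mem hr2 _
    have hcord : orderOf c = 2 ^ 1 := by
      rw [pow_one, hc', orderOf_conj_eq, (hvo s hs hsu hc).1]
    have e := irr_section_of_kernel hM (x := c) ⟨1, hcord⟩ (C := C) rfl hχ (pPrimeCore 2 C)
      (fun h => Nat.prime_two.coprime_iff_not_dvd.1
        (Cfsg.Agent.FittingCores.pPrimeCore_coprime (G := C) 2).symm h) hrN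
    rw [e, hc']
    exact hcf (u * s) g
  -- the constituents not vanishing at an involution
  have hlin : ∀ s : G, orderOf s = 2 → s ≠ u → Commute s u → ∀ χ ∈ B, χ ≠ Char.principal G →
      (χ : G → ℂ) s ≠ 0 → ∃ K : Subgroup G, K.Normal ∧ K.index = 2 ∧ u ∉ K ∧
        (∀ g ∈ K, (χ : G → ℂ) g = 1) ∧ ∀ g, g ∉ K → (χ : G → ℂ) g = -1 := by
    intro s hs hsu hc χ hχ hχ1 hs0
    obtain ⟨o1, o2, o3⟩ := hvo s hs hsu hc
    have e1 := hsection s hs hsu hc χ hχ
    have e2 := hsection (u * s) o1 o2 o3 χ hχ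
    rw [← mul_assoc, hu2, one_mul] at e2
    refine irr_of_kernel χ hN hu hχ1 ?_
    have : ((χ : G → ℂ) u ^ 2 - (χ : G → ℂ) 1 ^ 2) * (χ : G → ℂ) s = 0 := by
      linear_combination (χ : G → ℂ) u * e1 + (χ : G → ℂ) 1 * e2
    exact sub_eq_zero.1 ((mul_eq_zero.1 this).resolve_right hs0)
  have hexist : ∀ s : G, orderOf s = 2 → s ≠ u → Commute s u →
      ∃ K : Subgroup G, K.Normal ∧ K.index = 2 ∧ u ∉ K ∧ s ∉ K := by
    intro s hs hsu hc
    have h0 := blockPair_regular_singular hM (isPBlock_principalBlock M G) (u := 1) (w := s)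
      (by simp) (by rw [hs])
    unfold blockPair at h0
    set F := Finset.univ.filter (fun χ : IrrCharacter G =>
      χ ∈ B ∧ χ ≠ Char.principal G ∧ (χ : G → ℂ) s ≠ 0) with hF
    have hprin : Char.principal G ∈ Finset.univ.filter (· ∈ principalBlock M G) :=
      Finset.mem_filter.2 ⟨Finset.mem_univ _, principal_mem_principalBlock⟩
    rw [← Finset.add_sum_erase _ _ hprin] at h0
    have hrest : ∑ χ ∈ (Finset.univ.filter (· ∈ principalBlock M G)).erase (Char.principal G),
        (χ : G → ℂ) 1 * conj ((χ : G → ℂ) s) = ∑ χ ∈ F, (χ : G → ℂ) 1 * conj ((χ : G → ℂ) s) := by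
      refine (Finset.sum_subset (fun χ hχ => ?_) fun χ hχ hχ' => ?_).symm
      · simp only [hF, Finset.mem_filter, Finset.mem_univ, true_and] at hχ
        simp [hχ.1, hχ.2.1, hBdef ▸ hχ.1]
      · simp only [Finset.mem_erase, Finset.mem_filter, Finset.mem_univ, true_and] at hχ
        have : (χ : G → ℂ) s = 0 := by
          by_contra h1
          exact hχ' (Finset.mem_filter.2 ⟨Finset.mem_univ _, hχ.2, hχ.1, h1⟩)
        simp [this]
    rw [hrest] at h0
    simp only [Char.principal, map_one, mul_one] at h0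
    rcases F.eq_empty_or_nonempty with hemp | ⟨χ₀, hχ₀⟩
    · simp [hemp] at h0
    obtain ⟨-, hB₀, hp₀, hs₀⟩ := Finset.mem_filter.1 hχ₀
    obtain ⟨K, hK, hKi, huK, hK1, hK2⟩ := hlin s hs hsu hc χ₀ hB₀ hp₀ hs₀
    refine ⟨K, hK, hKi, huK, fun hsK => ?_⟩
    have hall : ∀ χ ∈ F, χ = χ₀ := by
      intro χ hχ
      obtain ⟨-, hB, hp, hs'⟩ := Finset.mem_filter.1 hχ
      obtain ⟨K', hK', hKi', huK', hK1', hK2'⟩ := hlin s hs hsu hc χ hB hp hs'
      obtain rfl := eq_of_index_two hN hK hK' hKi hKi' huK huK'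
      refine Subtype.ext (funext fun g => ?_)
      by_cases hg : g ∈ K
      · rw [hK1 g hg, hK1' g hg]
      · rw [hK2 g hg, hK2' g hg]
    rw [Finset.eq_singleton_iff_unique_mem.2 ⟨hχ₀, hall⟩, Finset.sum_singleton,
      hK1 1 (one_mem K), hK1 s hsK, map_one, mul_one] at h0
    norm_num at h0
  obtain ⟨o1, o2, o3⟩ := hvo t ht hne htu
  obtain ⟨K, hK, hKi, huK, htK⟩ := hexist t ht hne htu
  obtain ⟨K', hK', hKi', huK', hvK⟩ := hexist (u * t) o1 o2 o3
  obtain rfl := eq_of_index_two hN hK hK' hKi hKi' huK huK'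
  exact hvK ((Subgroup.mul_mem_iff_of_index_two hKi).2 (iff_of_false huK htK))

/-- The Z*-theorem of Glauberman. -/
theorem zStar : ∀ (G : Type u) [Group G] [Finite G] (x : G), orderOf x = 2 → IsIsolated x →
    InZStar 2 x := by
  intro G _ _
  induction hn : Nat.card G using Nat.strong_induction_on generalizing G with
  | _ n ih =>
  subst hn
  intro u hu h
  haveI : Fact (Nat.Prime 2) := ⟨Nat.prime_two⟩
  haveI : Fintype G := Fintype.ofFinite G
  haveI hOn : (pPrimeCore 2 G).Normal := Cfsg.Agent.FittingCores.pPrimeCore_normal 2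
  by_cases hO : pPrimeCore 2 G = ⊥
  swap
  · have hodd : ¬ 2 ∣ Nat.card (pPrimeCore 2 G) := fun h => Nat.prime_two.coprime_iff_not_dvd.1
      (Cfsg.Agent.FittingCores.pPrimeCore_coprime (G := G) 2).symm h
    have hlt : Nat.card (G ⧸ pPrimeCore 2 G) < Nat.card G := by
      rw [Subgroup.card_eq_card_quotient_mul_card_subgroup (pPrimeCore 2 G)]
      exact lt_mul_of_one_lt_right Nat.card_pos (Subgroup.one_lt_card_iff_ne_bot _ |>.2 hO)
    have huO : u ∉ pPrimeCore 2 G := fun hm => hodd (by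
      have h3 := Subgroup.orderOf_dvd_natCard _ hm
      rwa [hu] at h3)
    have huo : orderOf (u : G ⧸ pPrimeCore 2 G) = 2 := orderOf_eq_prime
      (by rw [← QuotientGroup.mk_pow, (show u ^ 2 = 1 from orderOf_dvd_iff_pow_eq_one.1 hu.dvd),
        QuotientGroup.mk_one])
      (by rw [Ne, QuotientGroup.eq_one_iff]; exact huO)
    have hq := ih _ hlt (G ⧸ pPrimeCore 2 G) rfl (u : G ⧸ pPrimeCore 2 G) huo
      (iso_quotient h hu _ hodd)
    intro g
    have h2 := hq (g : G ⧸ pPrimeCore 2 G)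
    rw [Cfsg.Agent.FittingCores.pPrimeCore_quotient_eq_bot 2 _ rfl, Subgroup.mem_bot] at h2
    exact (QuotientGroup.eq_one_iff _).1 h2
  by_cases hcen : u ∈ Subgroup.center G
  · intro g
    rw [Subgroup.mem_center_iff.1 hcen g, mul_inv_cancel_right, mul_inv_cancel]
    exact one_mem _
  exfalso
  have hsub : ∀ H : Subgroup G, H ≠ ⊤ → ∀ x : H, orderOf x = 2 → IsIsolated x → InZStar 2 x :=
    fun H hH => ih _ (lt_of_le_of_ne (Subgroup.card_le_card_group H)
      fun e => hH (Subgroup.eq_top_of_card_eq H e)) H rfl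
  have hNO : ∀ N : Subgroup G, N.Normal → pPrimeCore 2 N = ⊥ := by
    intro N hN
    have h1 := Cfsg.Agent.FittingCores.pPrimeCore_map_subtype_le 2 hN
    rw [hO, le_bot_iff, Subgroup.map_eq_bot_iff_of_injective _ N.subtype_injective] at h1
    exact h1
  have comm : ∀ g : G, Commute (g * u * g⁻¹) u → g * u = u * g := fun g hg =>
    mul_inv_eq_iff_eq_mul.1 (h g hg.symm)
  -- no proper normal subgroup contains the involution
  have hN : ∀ N : Subgroup G, N.Normal → u ∈ N → N = ⊤ := by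
    intro N hN huN
    by_contra hne
    apply hcen
    rw [Subgroup.mem_center_iff]
    intro g
    refine comm g ?_
    have h2 := hsub N hne ⟨u, huN⟩ (by rw [← Subgroup.orderOf_coe]; exact hu)
      (iso_subgroup h N huN) ⟨g * u * g⁻¹, hN.conj_mem u huN g⟩
    rw [hNO N hN, Subgroup.mem_bot] at h2
    have h3 := congrArg Subtype.val h2
    simp only [Subgroup.coe_mul, Subgroup.coe_inv, OneMemClass.coe_one] at h3
    exact mul_inv_eq_iff_eq_mul.1 (mul_inv_eq_one.1 h3)
  have hZ : ∀ z ∈ Subgroup.center G, orderOf z ≠ 2 := by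
    intro z hzc hzo
    haveI hzn : (Subgroup.zpowers z).Normal := ⟨fun y hy g => by
      have hyc : y ∈ Subgroup.center G := Subgroup.zpowers_le.2 hzc hy
      rwa [Subgroup.mem_center_iff.1 hyc g, mul_inv_cancel_right]⟩
    set Z := Subgroup.zpowers z with hZdef
    have hZc : Nat.card Z = 2 := by rw [hZdef, Nat.card_zpowers, hzo]
    have hlt : Nat.card (G ⧸ Z) < Nat.card G := by
      rw [Subgroup.card_eq_card_quotient_mul_card_subgroup Z, hZc]
      have : 0 < Nat.card (G ⧸ Z) := Nat.card_pos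
      omega
    have huZ : u ∉ Z := fun hm => hcen (Subgroup.zpowers_le.2 hzc hm)
    have huo : orderOf (u : G ⧸ Z) = 2 := orderOf_eq_prime
      (by rw [← QuotientGroup.mk_pow, (show u ^ 2 = 1 from orderOf_dvd_iff_pow_eq_one.1 hu.dvd),
        QuotientGroup.mk_one])
      (by rw [Ne, QuotientGroup.eq_one_iff]; exact huZ)
    have hq := ih _ hlt (G ⧸ Z) rfl (u : G ⧸ Z) huo (iso_quotient_central h hu hzc hzo)
    have hRn : (pPrimeCore 2 (G ⧸ Z)).Normal := Cfsg.Agent.FittingCores.pPrimeCore_normal 2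
    set N := (pPrimeCore 2 (G ⧸ Z)).comap (QuotientGroup.mk' Z) with hNdef
    have hNn : N.Normal := hRn.comap _
    have hle : Z ≤ N := fun y hy => by
      rw [hNdef, Subgroup.mem_comap, QuotientGroup.mk'_apply, (QuotientGroup.eq_one_iff y).2 hy]
      exact one_mem _
    have hcardN : Nat.card N = 2 * Nat.card (pPrimeCore 2 (G ⧸ Z)) := by
      have h1 := Subgroup.relIndex_ker (QuotientGroup.mk' Z) (K := N)
      rw [QuotientGroup.ker_mk', hNdef,
        Subgroup.map_comap_eq_self_of_surjective (QuotientGroup.mk'_surjective Z), ← hNdef] at h1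
      rw [← h1, ← hZc, ← Subgroup.relIndex_bot_left, ← Subgroup.relIndex_bot_left,
        Subgroup.relIndex_mul_relIndex _ _ _ bot_le hle]
    have hodd : ¬ 2 ∣ Nat.card (pPrimeCore 2 (G ⧸ Z)) := fun h =>
      Nat.prime_two.coprime_iff_not_dvd.1
        (Cfsg.Agent.FittingCores.pPrimeCore_coprime (G := G ⧸ Z) 2).symm h
    have heq : N = Z := by
      obtain ⟨T⟩ : Nonempty (Sylow 2 N) := inferInstance
      have hT : Nat.card T = 2 := by
        rw [T.card_eq_multiplicity, hcardN, Nat.factorization_mul (by norm_num) Nat.card_pos.ne',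
          Finsupp.add_apply, Nat.Prime.factorization_self Nat.prime_two,
          Nat.factorization_eq_zero_of_not_dvd hodd]
        norm_num
      haveI : IsCyclic T := isCyclic_of_prime_card (p := 2) hT
      obtain ⟨K, hK, hK2, hKi⟩ := exists_complement T inferInstance (hcardN ▸ dvd_mul_right 2 _)
      have hKb : K = ⊥ := le_bot_iff.1 (hNO N hNn ▸ Cfsg.Agent.FittingCores.le_pPrimeCore hK
        ((Nat.prime_two.coprime_iff_not_dvd.2 hK2).symm))
      refine (Subgroup.eq_of_le_of_card_ge hle ?_).symm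
      rw [hZc, ← hT, ← hKi, hKb, Subgroup.index_bot]
    apply hcen
    rw [Subgroup.mem_center_iff]
    intro g
    refine comm g ?_
    have h2 : g * u * g⁻¹ * u⁻¹ ∈ N := hq (g : G ⧸ Z)
    rw [heq] at h2
    have h3 := Subgroup.zpowers_le.2 hzc h2
    have h4 : g * u * g⁻¹ = g * u * g⁻¹ * u⁻¹ * u := by group
    rw [h4]
    exact (show Commute (g * u * g⁻¹ * u⁻¹) u from
      (Subgroup.mem_center_iff.1 h3 u).symm).mul_left (Commute.refl u)
  by_cases hrank : ∀ t : G, orderOf t = 2 → Commute t u → t = u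
  · obtain ⟨P, hP⟩ := (IsPGroup.of_card (n := 1) (by rw [Nat.card_zpowers, hu, pow_one]) :
      IsPGroup 2 (Subgroup.zpowers u)).exists_le_sylow
    have huP : u ∈ (P : Subgroup G) := hP (Subgroup.mem_zpowers u)
    have hall : ∀ x : (P : Subgroup G), orderOf x = 2 → (x : G) = u := fun x hx =>
      hrank x (by rw [Subgroup.orderOf_coe, hx]) (iso_commute_of_pGroup h P.2 huP x.2)
    have hR : RankOne G := rankOne_of_sylow P fun x y hx hy =>
      Subtype.ext ((hall x hx).trans (hall y hy).symm)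
    apply hcen
    rw [Subgroup.mem_center_iff]
    intro g
    have h2 := inZStar G hR u hu g
    rw [hO, Subgroup.mem_bot] at h2
    exact mul_inv_eq_iff_eq_mul.1 (mul_inv_eq_one.1 h2)
  push_neg at hrank
  obtain ⟨t, ht, htu, htne⟩ := hrank
  exact false_of_isolated h hu ht htne htu hN hZ hsub

end Cfsg.Agent.BrauerSuzuki
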