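import Cfsg.Agent.Lib.BrauerSuzuki.Sylow

/-!
Isolated involutions.
-/

set_option autoImplicit false
set_option linter.style.haveILetI false
set_option linter.unusedSectionVars false

namespace Cfsg.Agent.BrauerSuzuki

open Cfsg

universe u

variable {G : Type u} [Group G]

theorem orderOf_conj_eq (g x : G) : orderOf (g * x * g⁻¹) = orderOf x :=
  orderOf_injective (MulAut.conj g).toMonoidHom (MulAut.conj g).injective x

theorem iso_subgroup {x : G} (h : IsIsolated x) (H : Subgroup G) (hx : x ∈ H) :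
    IsIsolated (⟨x, hx⟩ : H) := fun g hg =>
  Subtype.ext (h (g : G) (by simpa using hg.map H.subtype))

theorem iso_conj {x : G} (h : IsIsolated x) (y : G) : IsIsolated (y * x * y⁻¹) := by
  intro g hg
  have hg' := hg.map (MulAut.conj y⁻¹).toMonoidHom
  simp only [MulEquiv.coe_toMonoidHom, MulAut.conj_apply, inv_inv] at hg'
  have e1 : y⁻¹ * (y * x * y⁻¹) * y = x := by group
  have e2 : y⁻¹ * (g * (y * x * y⁻¹) * g⁻¹) * y = (y⁻¹ * g * y) * x * (y⁻¹ * g * y)⁻¹ := by group
  rw [e1, e2] at hg'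
  have h1 := h _ hg'
  have h2 : g * (y * x * y⁻¹) * g⁻¹ = y * (y⁻¹ * g * y * x * (y⁻¹ * g * y)⁻¹) * y⁻¹ := by group
  rw [h2, h1]

variable [Finite G]

/-- An isolated element lying in a 2-group is central in it. -/
theorem iso_commute_of_pGroup {x : G} (h : IsIsolated x) {T : Subgroup G}
    (hT : IsPGroup 2 T) (hx : x ∈ T) {y : G} (hy : y ∈ T) : Commute y x := by
  haveI : Fact (Nat.Prime 2) := ⟨Nat.prime_two⟩
  set C : Subgroup T := (Subgroup.centralizer ({x} : Set G)).subgroupOf T with hC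
  have hmem : ∀ c : T, c ∈ C ↔ Commute (c : G) x := fun c => by
    rw [hC, Subgroup.mem_subgroupOf, Subgroup.mem_centralizer_singleton_iff]; exact Iff.rfl
  by_contra hne
  have hlt : C < ⊤ := lt_top_iff_ne_top.2 fun e => hne ((hmem ⟨y, hy⟩).1 (e ▸ Subgroup.mem_top _))
  haveI : Group.IsNilpotent T := hT.isNilpotent
  obtain ⟨n, hn, hnC⟩ := SetLike.exists_of_lt (Group.normalizerCondition_of_isNilpotent C hlt)
  apply hnC
  have h1 : n * ⟨x, hx⟩ * n⁻¹ ∈ C :=
    (Subgroup.mem_normalizer_iff.1 hn _).1 ((hmem _).2 (Commute.refl x))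
  have h2 := h (n : G) (by simpa using ((hmem _).1 h1).symm)
  rw [hmem]
  exact mul_inv_eq_iff_eq_mul.1 h2

/-- A 2-group contains at most one conjugate of an isolated element. -/
theorem iso_eq_of_pGroup {x : G} (h : IsIsolated x) {T : Subgroup G}
    (hT : IsPGroup 2 T) (hx : x ∈ T) {g : G} (hg : g * x * g⁻¹ ∈ T) : g * x * g⁻¹ = x :=
  h g (iso_commute_of_pGroup h hT hx hg).symm

theorem isIsolated_of_sylow {P : Sylow 2 G} {x : G} (hx : orderOf x = 2) (hxP : x ∈ (P : Subgroup G))
    (hiso : ∀ g : G, g * x * g⁻¹ ∈ (P : Subgroup G) → g * x * g⁻¹ = x) : IsIsolated x := by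
  haveI : Fact (Nat.Prime 2) := ⟨Nat.prime_two⟩
  intro g hg
  set y := g * x * g⁻¹ with hy
  have hyo : orderOf y = 2 := (orderOf_conj_eq g x).trans hx
  have hle : Subgroup.zpowers x ≤ Subgroup.normalizer (Subgroup.zpowers y : Set G) := by
    rw [Subgroup.zpowers_le]
    refine Subgroup.centralizer_le_normalizer _ (Subgroup.mem_centralizer_iff.2 fun h hh => ?_)
    obtain ⟨j, rfl⟩ := Subgroup.mem_zpowers_iff.1 hh
    exact (hg.zpow_right j).eq.symm
  obtain ⟨T, hT⟩ := (IsPGroup.to_sup_of_normal_right'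
    (IsPGroup.of_card (n := 1) (by rw [Nat.card_zpowers, hx, pow_one]))
    (IsPGroup.of_card (n := 1) (by rw [Nat.card_zpowers, hyo, pow_one])) hle :
    IsPGroup 2 (Subgroup.zpowers x ⊔ Subgroup.zpowers y : Subgroup G)).exists_le_sylow
  obtain ⟨k, hk⟩ := MulAction.exists_smul_eq G T P
  have hm : ∀ {z}, z ∈ (T : Subgroup G) → k * z * k⁻¹ ∈ (P : Subgroup G) := by
    intro z hz
    rw [← hk, Sylow.coe_subgroup_smul]
    exact Subgroup.smul_mem_pointwise_smul z (MulAut.conj k) _ hz
  have h1 := hiso k (hm (hT (Subgroup.mem_sup_left (Subgroup.mem_zpowers x))))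
  have h2 : k * y * k⁻¹ = x := by
    have := hiso (k * g) (by
      have := hm (hT (Subgroup.mem_sup_right (Subgroup.mem_zpowers y)))
      simpa [hy, mul_assoc] using this)
    simpa [hy, mul_assoc] using this
  have h3 : k * y * k⁻¹ = k * x * k⁻¹ := h2.trans h1.symm
  exact mul_left_cancel (mul_right_cancel h3)

/-- The image in a quotient by a normal subgroup of odd order is isolated. -/
theorem iso_quotient {x : G} (h : IsIsolated x) (hx : orderOf x = 2) (O : Subgroup G)
    [O.Normal] (hO : ¬ 2 ∣ Nat.card O) : IsIsolated (x : G ⧸ O) := by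
  classical
  haveI : Fact (Nat.Prime 2) := ⟨Nat.prime_two⟩
  intro gb
  induction gb using QuotientGroup.induction_on with
  | _ g =>
  intro hc
  set y := g * x * g⁻¹ with hy
  have hyb : (g : G ⧸ O) * (x : G ⧸ O) * (g : G ⧸ O)⁻¹ = (y : G ⧸ O) := by
    rw [hy, QuotientGroup.mk_mul, QuotientGroup.mk_mul, QuotientGroup.mk_inv]
  rw [hyb] at hc ⊢
  have hyo : orderOf y = 2 := (orderOf_conj_eq g x).trans hx
  set Q := Subgroup.zpowers (x : G ⧸ O) ⊔ Subgroup.zpowers (y : G ⧸ O) with hQ
  have hcommQ : ∀ u ∈ Q, ∀ v ∈ Q, Commute u v := by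
    intro u hu v hv
    have key : ∀ w : G ⧸ O, Commute (x : G ⧸ O) w → Commute (y : G ⧸ O) w → ∀ u ∈ Q, Commute u w := by
      intro w h1 h2 u hu
      have hle : Q ≤ Subgroup.centralizer ({w} : Set (G ⧸ O)) :=
        sup_le (Subgroup.zpowers_le.2 (Subgroup.mem_centralizer_singleton_iff.2 h1.eq))
          (Subgroup.zpowers_le.2 (Subgroup.mem_centralizer_singleton_iff.2 h2.eq))
      exact Subgroup.mem_centralizer_singleton_iff.1 (hle hu)
    exact key v (key _ (Commute.refl _) hc.symm v hv).symm (key _ hc (Commute.refl _) v hv).symm u hu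
  set R := Q.comap (QuotientGroup.mk' O) with hR
  have hxR : x ∈ R := Subgroup.mem_sup_left (Subgroup.mem_zpowers _)
  have hyR : y ∈ R := Subgroup.mem_sup_right (Subgroup.mem_zpowers _)
  obtain ⟨T, hT⟩ := (IsPGroup.of_card (n := 1)
    (by rw [Nat.card_zpowers, ← Subgroup.orderOf_coe, pow_one]; exact hx) :
    IsPGroup 2 (Subgroup.zpowers (⟨x, hxR⟩ : R))).exists_le_sylow
  obtain ⟨T', hT'⟩ := (IsPGroup.of_card (n := 1)
    (by rw [Nat.card_zpowers, ← Subgroup.orderOf_coe, pow_one]; exact hyo) :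
    IsPGroup 2 (Subgroup.zpowers (⟨y, hyR⟩ : R))).exists_le_sylow
  obtain ⟨r, hr⟩ := MulAction.exists_smul_eq R T' T
  have hm : r * ⟨y, hyR⟩ * r⁻¹ ∈ (T : Subgroup R) := by
    rw [← hr, Sylow.coe_subgroup_smul]
    exact Subgroup.smul_mem_pointwise_smul _ (MulAut.conj r) _ (hT' (Subgroup.mem_zpowers _))
  have he : (r : G) * y * (r : G)⁻¹ = x := by
    have h1 := iso_eq_of_pGroup h (T.2.map R.subtype)
      ⟨⟨x, hxR⟩, hT (Subgroup.mem_zpowers _), rfl⟩ (g := (r : G) * g)
      ⟨_, hm, by simp [hy, mul_assoc]⟩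
    simpa [hy, mul_assoc] using h1
  have hrq : ((r : G) : G ⧸ O) ∈ Q := r.2
  have h2 := congrArg (QuotientGroup.mk' O) he
  simp only [map_mul, map_inv, QuotientGroup.mk'_apply] at h2
  rw [(hcommQ _ hrq _ (Subgroup.mem_sup_right (Subgroup.mem_zpowers _))).eq,
    mul_inv_cancel_right] at h2
  exact h2

/-- The image in a quotient by a central involution is isolated. -/
theorem iso_quotient_central {x : G} (h : IsIsolated x) (hx : orderOf x = 2) {z : G}
    (hz : z ∈ Subgroup.center G) (hzo : orderOf z = 2) [(Subgroup.zpowers z).Normal] :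
    IsIsolated (x : G ⧸ Subgroup.zpowers z) := by
  intro gb
  induction gb using QuotientGroup.induction_on with
  | _ g =>
  intro hc
  set y := g * x * g⁻¹ with hy
  have hyb : (g : G ⧸ Subgroup.zpowers z) * (x : G ⧸ Subgroup.zpowers z) *
      (g : G ⧸ Subgroup.zpowers z)⁻¹ = (y : G ⧸ Subgroup.zpowers z) := by
    rw [hy, QuotientGroup.mk_mul, QuotientGroup.mk_mul, QuotientGroup.mk_inv]
  rw [hyb] at hc ⊢
  rw [show y = x from ?_]
  refine h g ?_
  show Commute x y
  have hmem : (y * x)⁻¹ * (x * y) ∈ Subgroup.zpowers z := by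
    rw [← QuotientGroup.eq, QuotientGroup.mk_mul, QuotientGroup.mk_mul]
    exact hc.eq.symm
  have hx2 : x * x = 1 := by rw [← pow_two, ← hx]; exact pow_orderOf_eq_one x
  have hy2 : y * y = 1 := by
    rw [← pow_two, ← show orderOf y = 2 from (orderOf_conj_eq g x).trans hx]
    exact pow_orderOf_eq_one y
  classical
  rw [mem_zpowers_iff_mem_range_orderOf, hzo] at hmem
  simp only [Finset.mem_image, Finset.mem_range] at hmem
  obtain ⟨i, hi, hi2⟩ := hmem
  interval_cases i
  · rw [pow_zero] at hi2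
    exact (inv_mul_eq_one.1 hi2.symm).symm
  · exfalso
    rw [pow_one] at hi2
    have e : y * x * y⁻¹ = x * z := by
      rw [hi2, mul_inv_rev y x, inv_eq_of_mul_eq_one_right hx2, inv_eq_of_mul_eq_one_right hy2]
      calc y * x * y = x * x * (y * x * y) := by rw [hx2, one_mul]
        _ = x * (x * y * x * y) := by simp only [mul_assoc]
        _ = x * (x * y * (x * y)) := by simp only [mul_assoc]
    have h2 := h y (by
      rw [e]
      exact (Commute.refl x).mul_right ((Subgroup.mem_center_iff.1 hz x : x * z = z * x)))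
    rw [e] at h2
    have hz1 : z = 1 := by simpa using h2
    rw [hz1, orderOf_one] at hzo
    omega

end Cfsg.Agent.BrauerSuzuki
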