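import Cfsg.Agent.Lib.BrauerSuzuki.Main
import Cfsg.Agent.Lib.SylowChains.PPrime
import Mathlib.GroupTheory.SpecificGroups.KleinFour

/-!
Groups with quaternion Sylow 2-subgroups, or without four-subgroups.
-/

set_option autoImplicit false
set_option linter.style.haveILetI false
set_option linter.unusedSectionVars false

namespace Cfsg.Agent.BrauerSuzuki

open Cfsg Cfsg.Agent.FittingCores

universe u

variable {G : Type u} [Group G]

theorem exists_klein {a b : G} (ha : orderOf a = 2) (hb : orderOf b = 2) (hab : Commute a b)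
    (hne : a ≠ b) : ∃ E : Subgroup G, IsKleinFour E ∧ a ∈ E ∧ b ∈ E := by
  classical
  have h1 : a * a = 1 := by rw [← pow_two, ← ha]; exact pow_orderOf_eq_one a
  have h2 : b * b = 1 := by rw [← pow_two, ← hb]; exact pow_orderOf_eq_one b
  have h3 : a * (a * b) = b := by rw [← mul_assoc, h1, one_mul]
  have h4 : b * (a * b) = a := by rw [← mul_assoc, ← hab.eq, mul_assoc, h2, mul_one]
  have h5 : a * b * a = b := by rw [hab.eq, mul_assoc, h1, mul_one]
  have h6 : a * b * b = a := by rw [mul_assoc, h2, mul_one]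
  have h7 : a * b * (a * b) = 1 := by rw [mul_assoc, h4, h1]
  let E : Subgroup G :=
    { carrier := {x | x = 1 ∨ x = a ∨ x = b ∨ x = a * b}
      one_mem' := Or.inl rfl
      mul_mem' := fun {x y} hx hy => by
        rcases hx with rfl | rfl | rfl | rfl <;> rcases hy with rfl | rfl | rfl | rfl <;>
          simp [h1, h2, h3, h4, h5, h6, h7, hab.eq.symm]
      inv_mem' := fun {x} hx => by
        rcases hx with rfl | rfl | rfl | rfl
        · simp
        · exact Or.inr (Or.inl (inv_eq_of_mul_eq_one_right h1))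
        · exact Or.inr (Or.inr (Or.inl (inv_eq_of_mul_eq_one_right h2)))
        · exact Or.inr (Or.inr (Or.inr (inv_eq_of_mul_eq_one_right h7))) }
  have hsq : ∀ x : E, x ^ 2 = 1 := by
    rintro ⟨x, rfl | rfl | rfl | rfl⟩ <;> apply Subtype.ext <;> simp [pow_two, h1, h2, h7]
  have hn1 : a ≠ 1 := fun h => by simp [h] at ha
  have hn2 : b ≠ 1 := fun h => by simp [h] at hb
  have hn3 : a * b ≠ 1 := fun h => hne (by
    have := eq_inv_of_mul_eq_one_left h
    rwa [inv_eq_of_mul_eq_one_right h2] at this)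
  have hcard : Nat.card E = 4 := by
    have hset : (E : Set G) = {1, a, b, a * b} := rfl
    rw [show Nat.card E = (E : Set G).ncard from (Nat.card_coe_set_eq _), hset,
      Set.ncard_insert_of_notMem (by simp [hn1.symm, hn2.symm, hn3.symm]),
      Set.ncard_insert_of_notMem (by simp [hne, hn2]),
      Set.ncard_insert_of_notMem (by simp [hn1]), Set.ncard_singleton]
  haveI : Finite E := Nat.finite_of_card_ne_zero (by omega)
  refine ⟨E, ⟨hcard, ?_⟩, Or.inr (Or.inl rfl), Or.inr (Or.inr (Or.inl rfl))⟩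
  refine Nat.dvd_antisymm (Monoid.exponent_dvd_of_forall_pow_eq_one hsq) ?_
  have := Monoid.order_dvd_exponent (⟨a, Or.inr (Or.inl rfl)⟩ : E)
  rwa [← Subgroup.orderOf_coe, ha] at this

theorem rankOne_of_no_klein (h : ∀ E : Subgroup G, ¬ IsKleinFour E) : RankOne G := by
  intro a b ha hb hab
  by_contra hne
  obtain ⟨E, hE, -⟩ := exists_klein ha hb hab hne
  exact h E hE

theorem rankOne_of_sylow [Finite G] (S : Sylow 2 G)
    (h : ∀ x y : (S : Subgroup G), orderOf x = 2 → orderOf y = 2 → x = y) : RankOne G := by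
  haveI : Fact (Nat.Prime 2) := ⟨Nat.prime_two⟩
  intro a b ha hb hab
  have hle : Subgroup.zpowers a ≤ Subgroup.normalizer (Subgroup.zpowers b : Set G) := by
    rw [Subgroup.zpowers_le]
    refine Subgroup.centralizer_le_normalizer _ (Subgroup.mem_centralizer_iff.2 fun h hh => ?_)
    obtain ⟨j, rfl⟩ := Subgroup.mem_zpowers_iff.1 hh
    exact (hab.zpow_right j).eq.symm
  have hP : IsPGroup 2 (Subgroup.zpowers a ⊔ Subgroup.zpowers b : Subgroup G) :=
    IsPGroup.to_sup_of_normal_right'
      (IsPGroup.of_card (n := 1) (by rw [Nat.card_zpowers, ha, pow_one]))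
      (IsPGroup.of_card (n := 1) (by rw [Nat.card_zpowers, hb, pow_one])) hle
  obtain ⟨T, hT⟩ := hP.exists_le_sylow
  obtain ⟨g, hg⟩ := MulAction.exists_smul_eq G T S
  have hm : ∀ {x}, x ∈ Subgroup.zpowers a ⊔ Subgroup.zpowers b → g * x * g⁻¹ ∈ (S : Subgroup G) := by
    intro x hx
    rw [← hg, Sylow.coe_subgroup_smul]
    exact Subgroup.smul_mem_pointwise_smul x (MulAut.conj g) _ (hT hx)
  have ho : ∀ x : G, orderOf (g * x * g⁻¹) = orderOf x := fun x =>
    orderOf_injective (MulAut.conj g).toMonoidHom (MulAut.conj g).injective x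
  have := congrArg Subtype.val
    (h ⟨_, hm (Subgroup.mem_sup_left (Subgroup.mem_zpowers a))⟩
      ⟨_, hm (Subgroup.mem_sup_right (Subgroup.mem_zpowers b))⟩
      (by rw [← Subgroup.orderOf_coe, ho, ha]) (by rw [← Subgroup.orderOf_coe, ho, hb]))
  simpa using this

theorem not_cyclic_quaternion {n : ℕ} (hn : 2 ≤ n) : ¬ IsCyclic (QuaternionGroup n) := by
  haveI : NeZero n := ⟨by omega⟩
  intro h
  letI : CommGroup (QuaternionGroup n) := IsCyclic.commGroup
  have h1 := mul_comm (QuaternionGroup.a (1 : ZMod (2 * n))) (QuaternionGroup.xa 0)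
  rw [QuaternionGroup.a_mul_xa, QuaternionGroup.xa_mul_a] at h1
  injection h1 with h2
  have h3 : ((2 : ℕ) : ZMod (2 * n)) = 0 := by push_cast; linear_combination -h2
  rw [ZMod.natCast_eq_zero_iff] at h3
  have := Nat.le_of_dvd two_pos h3
  omega

theorem exists_quaternion_data [Finite G] (S : Sylow 2 G) {n : ℕ} (hn : 2 ≤ n)
    (e : (S : Subgroup G) ≃* QuaternionGroup n) :
    RankOne G ∧ ∃ D : Data G, D.S = S ∧ 2 * D.k = n := by
  haveI : NeZero n := ⟨by omega⟩
  have hR : RankOne G := rankOne_of_sylow S fun x y hx hy => e.injective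
    (SylowConn.quaternion_unique n _ _ (by rw [MulEquiv.orderOf_eq, hx])
      (by rw [MulEquiv.orderOf_eq, hy]))
  refine ⟨hR, ?_⟩
  rcases exists_data hR S with h | ⟨D, hD⟩
  · exact absurd (e.isCyclic.1 h) (not_cyclic_quaternion hn)
  · refine ⟨D, hD, ?_⟩
    have := D.card_S
    rw [hD, Nat.card_congr e.toEquiv, Nat.card_eq_fintype_card, QuaternionGroup.card] at this
    omega

/-- An involution and its centrality modulo the core. -/
theorem central_quotient [Finite G] (hR : RankOne G) {z : G} (hz : orderOf z = 2)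
    [(pPrimeCore 2 G).Normal] :
    (z : G ⧸ pPrimeCore 2 G) ∈ Subgroup.center (G ⧸ pPrimeCore 2 G) := by
  rw [Subgroup.mem_center_iff]
  intro x
  induction x using QuotientGroup.induction_on with
  | _ g =>
    have h := inZStar G hR z hz g
    rw [← QuotientGroup.eq_one_iff, QuotientGroup.mk_mul, QuotientGroup.mk_mul,
      QuotientGroup.mk_mul, QuotientGroup.mk_inv, QuotientGroup.mk_inv] at h
    exact mul_inv_eq_iff_eq_mul.1 (mul_inv_eq_one.1 h)

theorem pPrimeCore_two_eq_bot [Finite G]
    (hO : ∀ N : Subgroup G, N.Normal → Odd (Nat.card N) → N = ⊥) : pPrimeCore 2 G = ⊥ := by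
  refine hO _ (Cfsg.Agent.FittingCores.pPrimeCore_normal 2) ?_
  rw [← Nat.not_even_iff_odd, even_iff_two_dvd]
  exact fun h => Nat.prime_two.coprime_iff_not_dvd.1 (pPrimeCore_coprime (G := G) 2).symm h

/-- The centre. -/
theorem card_center [Finite G] (hR : RankOne G) (D : Data G)
    (hO : ∀ N : Subgroup G, N.Normal → Odd (Nat.card N) → N = ⊥) :
    Nat.card (Subgroup.center G) = 2 := by
  haveI : Fact (Nat.Prime 2) := ⟨Nat.prime_two⟩
  have hb := pPrimeCore_two_eq_bot hO
  set z := D.a ^ (2 * D.k) with hzdef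
  have hzc : z ∈ Subgroup.center G := by
    rw [Subgroup.mem_center_iff]
    intro g
    have h := inZStar G hR z D.orderOf_z g
    rw [hb, Subgroup.mem_bot] at h
    exact mul_inv_eq_iff_eq_mul.1 (mul_inv_eq_one.1 h)
  have hodd : ∀ x ∈ Subgroup.center G, Odd (orderOf x) → x = 1 := by
    intro x hx ho
    have hn : (Subgroup.zpowers x).Normal :=
      ⟨fun y hy g => by
        have hyc : y ∈ Subgroup.center G := Subgroup.zpowers_le.2 hx hy
        rwa [Subgroup.mem_center_iff.1 hyc g, mul_inv_cancel_right]⟩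
    have := hO _ hn (by rwa [Nat.card_zpowers])
    exact Subgroup.mem_bot.1 (this ▸ Subgroup.mem_zpowers x)
  have hp : IsPGroup 2 (Subgroup.center G) := by
    rw [IsPGroup.iff_orderOf]
    intro x
    obtain ⟨e, m, hm, hom⟩ := Nat.exists_eq_pow_mul_and_not_dvd (orderOf_pos x).ne' 2 (by norm_num)
    have h1 : orderOf ((x : G) ^ 2 ^ e) = m := by
      rw [orderOf_pow_of_dvd (by positivity) (by rw [Subgroup.orderOf_coe, hom]; exact Dvd.intro m rfl),
        Subgroup.orderOf_coe, hom, Nat.mul_div_cancel_left _ (by positivity)]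
    have h2 := hodd _ (pow_mem x.2 _) (by
      rw [h1]; exact Nat.not_even_iff_odd.1 fun h => hm h.two_dvd)
    rw [h2, orderOf_one] at h1
    exact ⟨e, by rw [hom, ← h1, mul_one]⟩
  have hle : Subgroup.center G ≤ (D.S : Subgroup G) := by
    obtain ⟨T, hT⟩ := hp.exists_le_sylow
    obtain ⟨g, hg⟩ := MulAction.exists_smul_eq G T D.S
    intro x hx
    rw [← hg, Sylow.coe_subgroup_smul]
    have := Subgroup.smul_mem_pointwise_smul x (MulAut.conj g) _ (hT hx)
    rwa [MulAut.smul_def, MulAut.conj_apply, Subgroup.mem_center_iff.1 hx g,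
      mul_inv_cancel_right] at this
  have heq : Subgroup.center G = Subgroup.zpowers z := by
    refine le_antisymm (fun x hx => ?_) (Subgroup.zpowers_le.2 hzc)
    obtain ⟨i, hi⟩ := IsPGroup.iff_orderOf.1 hp ⟨x, hx⟩
    rw [Subgroup.orderOf_mk] at hi
    rcases Nat.lt_or_ge i 2 with h | h
    · interval_cases i
      · rw [show x = 1 from orderOf_eq_one_iff.1 (by simpa using hi)]; exact one_mem _
      · rw [hR.unique_invol D.S.2 (hle hx) D.z_mem (by simpa using hi) D.orderOf_z]
        exact Subgroup.mem_zpowers z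
    · exfalso
      have hy : x ^ 2 ^ (i - 2) ∈ Subgroup.center G := pow_mem hx _
      obtain ⟨y, -, hy'⟩ := D.exists_not_commute (hle hy) (by
        rw [orderOf_pow_of_dvd (by positivity) (by rw [hi]; exact pow_dvd_pow 2 (by omega)), hi,
          Nat.pow_div (by omega) (by norm_num), show i - (i - 2) = 2 by omega])
      exact hy' (Subgroup.mem_center_iff.1 hy y)
  rw [heq, Nat.card_zpowers, D.orderOf_z]

end Cfsg.Agent.BrauerSuzuki
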