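import Mathlib.Data.ZMod.Basic
import Mathlib.Data.Fintype.Pi
import Mathlib.Tactic.LinearCombination
import Mathlib.Tactic.NormNum
import Mathlib.Tactic.Linarith
import Mathlib.Tactic.Ring
import Mathlib.Tactic.FieldSimp
import Mathlib.Data.Rat.Cast.Order

/-!
The arithmetic behind the theorem of Brauer and Suzuki: degrees `d` and defects `q = d - a` of the
characters in a small generalized character vanishing at the involutions.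
-/

set_option autoImplicit false

namespace Cfsg.Agent.BrauerSuzuki

theorem two_case {d₁ d₂ q₁ q₂ : ℚ} (h₁ : 0 < d₁) (h₂ : 0 < d₂) (hd : d₂ = 1 + d₁) (hq : q₂ = q₁)
    (hq2 : q₂ ^ 2 / d₂ = q₁ ^ 2 / d₁) : q₁ = 0 := by
  subst hq
  rw [div_eq_div_iff h₂.ne' h₁.ne'] at hq2
  have : q₂ ^ 2 = 0 := by rw [hd] at hq2; linarith
  exact pow_eq_zero_iff two_ne_zero |>.1 this

theorem cauchy_case {d₁ d₂ d₃ q₁ q₂ q₃ : ℚ} (h₁ : 0 < d₁) (h₂ : 0 < d₂) (h₃ : 0 < d₃)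
    (hd : d₃ = 1 + d₁ + d₂) (hq : q₃ = q₁ + q₂) (hq2 : q₃ ^ 2 / d₃ = q₁ ^ 2 / d₁ + q₂ ^ 2 / d₂) :
    q₃ = 0 := by
  subst hd hq
  field_simp at hq2
  have key : (1 + d₁ + d₂) * (q₁ * d₂ - q₂ * d₁) ^ 2 + (q₁ + q₂) ^ 2 * (d₁ * d₂) = 0 := by
    linear_combination (-(d₁ + d₂)) * hq2
  have e2 : 0 ≤ (1 + d₁ + d₂) * (q₁ * d₂ - q₂ * d₁) ^ 2 := by positivity
  have e3 : 0 ≤ (q₁ + q₂) ^ 2 * (d₁ * d₂) := by positivity
  have e4 : (q₁ + q₂) ^ 2 * (d₁ * d₂) = 0 := by linarith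
  have e5 : (q₁ + q₂) ^ 2 = 0 := (mul_eq_zero.1 e4).resolve_right (mul_pos h₁ h₂).ne'
  exact pow_eq_zero_iff two_ne_zero |>.1 e5

theorem zmod_three_three : ∀ a b x y : ZMod 4, a = 3 → b = 3 →
    (x + y) ^ 2 * a * b = (a + b - 1) * (x ^ 2 * b + y ^ 2 * a) →
      (x = 0 ∨ x = 2) ∧ (y = 0 ∨ y = 2) := by decide

/-- Descent when both negative degrees are `3` modulo four. -/
theorem descent {d₂ d₃ : ℤ} (h₂ : (d₂ : ZMod 4) = 3) (h₃ : (d₃ : ZMod 4) = 3) :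
    ∀ p₂ p₃ : ℤ, (p₂ + p₃) ^ 2 * d₂ * d₃ = (d₂ + d₃ - 1) * (p₂ ^ 2 * d₃ + p₃ ^ 2 * d₂) →
      p₂ = 0 := by
  suffices h : ∀ n : ℕ, ∀ p₂ p₃ : ℤ, p₂.natAbs ≤ n →
      (p₂ + p₃) ^ 2 * d₂ * d₃ = (d₂ + d₃ - 1) * (p₂ ^ 2 * d₃ + p₃ ^ 2 * d₂) → p₂ = 0 from
    fun p₂ p₃ => h p₂.natAbs p₂ p₃ le_rfl
  intro n
  induction n with
  | zero => exact fun p₂ p₃ hle _ => by omega
  | succ n ih =>
    intro p₂ p₃ hle he
    have h4 := congrArg (Int.cast : ℤ → ZMod 4) he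
    push_cast at h4
    obtain ⟨hx, hy⟩ := zmod_three_three _ _ _ _ h₂ h₃ h4
    have hev : ∀ p : ℤ, ((p : ZMod 4) = 0 ∨ (p : ZMod 4) = 2) → ∃ k, p = 2 * k := by
      intro p hp
      rcases hp with h | h
      · obtain ⟨k, hk⟩ := (ZMod.intCast_zmod_eq_zero_iff_dvd p 4).1 h
        exact ⟨2 * k, by rw [hk]; ring⟩
      · obtain ⟨k, hk⟩ := (ZMod.intCast_zmod_eq_zero_iff_dvd (p - 2) 4).1 (by push_cast; rw [h, sub_self])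
        exact ⟨2 * k + 1, by linear_combination hk⟩
    obtain ⟨k₂, rfl⟩ := hev p₂ hx
    obtain ⟨k₃, rfl⟩ := hev p₃ hy
    have h4e : (4 : ℤ) * ((k₂ + k₃) ^ 2 * d₂ * d₃) =
        4 * ((d₂ + d₃ - 1) * (k₂ ^ 2 * d₃ + k₃ ^ 2 * d₂)) := by linear_combination he
    have := ih k₂ k₃ (by omega) (mul_left_cancel₀ (by norm_num) h4e)
    rw [this, mul_zero]

set_option synthInstance.maxSize 2000 in
theorem zmod_mixed : ∀ a b x y : ZMod 4, a = 3 → b = 1 → (x = 0 ∨ x = 2) → (y = 1 ∨ y = 3) →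
    ¬ ((x + y) ^ 2 * a * b = (a + b - 1) * (x ^ 2 * b + y ^ 2 * a)) := by decide

set_option synthInstance.maxSize 2000 in
theorem zmod_one_one : ∀ a b x y : ZMod 4, a = 1 → b = 1 → (x = 1 ∨ x = 3) → (y = 1 ∨ y = 3) →
    ¬ ((x + y) ^ 2 * a * b = (a + b - 1) * (x ^ 2 * b + y ^ 2 * a)) := by decide

/-- The case of two negative signs for the quaternion group of order eight. -/
theorem quaternion_case {d₂ d₃ p₂ p₃ : ℤ} (h₂ : Odd d₂) (h₃ : Odd d₃)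
    (e₂ : (2 : ℤ) ∣ p₂ - (d₂ - 3) / 2) (e₃ : (2 : ℤ) ∣ p₃ - (d₃ - 3) / 2)
    (he : (p₂ + p₃) ^ 2 * d₂ * d₃ = (d₂ + d₃ - 1) * (p₂ ^ 2 * d₃ + p₃ ^ 2 * d₂)) :
    p₂ = 0 ∨ p₃ = 0 := by
  have hres : ∀ d p : ℤ, Odd d → (2 : ℤ) ∣ p - (d - 3) / 2 →
      ((d : ZMod 4) = 3 ∧ ((p : ZMod 4) = 0 ∨ (p : ZMod 4) = 2)) ∨
      ((d : ZMod 4) = 1 ∧ ((p : ZMod 4) = 1 ∨ (p : ZMod 4) = 3)) := by
    intro d p hd he
    obtain ⟨k, rfl⟩ := hd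
    have h4 : ∀ z r : ℤ, (4 : ℤ) ∣ z - r → (z : ZMod 4) = (r : ZMod 4) := fun z r h =>
      ((ZMod.intCast_eq_intCast_iff_dvd_sub r z 4).2 h).symm
    rcases Int.even_or_odd' k with ⟨j, rfl | rfl⟩
    · right
      refine ⟨by exact_mod_cast h4 (2 * (2 * j) + 1) 1 ⟨j, by ring⟩, ?_⟩
      rcases (show p % 4 = 1 ∨ p % 4 = 3 by omega) with h | h
      · exact Or.inl (by exact_mod_cast h4 p 1 (by omega))
      · exact Or.inr (by exact_mod_cast h4 p 3 (by omega))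
    · left
      refine ⟨by exact_mod_cast h4 (2 * (2 * j + 1) + 1) 3 ⟨j, by ring⟩, ?_⟩
      rcases (show p % 4 = 0 ∨ p % 4 = 2 by omega) with h | h
      · exact Or.inl (by exact_mod_cast h4 p 0 (by omega))
      · exact Or.inr (by exact_mod_cast h4 p 2 (by omega))
  have h4 := congrArg (Int.cast : ℤ → ZMod 4) he
  push_cast at h4
  rcases hres d₂ p₂ h₂ e₂ with ⟨a2, b2⟩ | ⟨a2, b2⟩ <;>
    rcases hres d₃ p₃ h₃ e₃ with ⟨a3, b3⟩ | ⟨a3, b3⟩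
  · exact Or.inl (descent a2 a3 p₂ p₃ he)
  · exact absurd h4 (zmod_mixed _ _ _ _ a2 a3 b2 b3)
  · refine absurd ?_ (zmod_mixed _ _ _ _ a3 a2 b3 b2)
    linear_combination h4
  · exact absurd h4 (zmod_one_one _ _ _ _ a2 a3 b2 b3)

end Cfsg.Agent.BrauerSuzuki
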