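import Cfsg.Agent.Lib.BrauerSuzuki.OrderEight
import Cfsg.Agent.Lib.BrauerSuzuki.Numerics
import Cfsg.Agent.Lib.Char.Integral

/-!
The theorem of Brauer and Suzuki: in a group of 2-rank one an involution is central modulo the
largest normal subgroup of odd order.
-/

set_option autoImplicit false
set_option linter.style.haveILetI false
set_option linter.unusedSectionVars false

namespace Cfsg.Agent.BrauerSuzuki

open Cfsg Cfsg.Agent.Char Cfsg.Agent.Blocks Cfsg.Agent.FittingCores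

universe u

variable {G : Type u} [Group G] [Fintype G]

/-- A proper normal subgroup from a character value equal to the degree. -/
theorem false_of_value_eq (χ : IrrCharacter G) (hχ : χ ≠ Char.principal G) {z : G}
    (hN : ∀ N : Subgroup G, N.Normal → z ∈ N → N = ⊤) (hz : (χ : G → ℂ) z = (χ : G → ℂ) 1) :
    False := by
  obtain ⟨N, hNn, hmem, -⟩ := Cfsg.Agent.Char.IsCharacter.exists_kernel (irr_isCharacter χ)
  have htop := hN N hNn ((hmem z).2 hz)
  have hconst : ∀ g, (χ : G → ℂ) g = (χ : G → ℂ) 1 := fun g => (hmem g).1 (htop ▸ Subgroup.mem_top g)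
  refine irr_one_ne_zero χ ?_
  have h := classInner_irr_of_ne χ.2 isIrrCharacter_one (fun e => hχ (Subtype.ext e))
  simp only [Cfsg.classInner, hconst, map_one, mul_one, Finset.sum_const, Finset.card_univ,
    nsmul_eq_mul, ← Nat.card_eq_fintype_card] at h
  rwa [← mul_assoc, inv_mul_cancel₀ (Nat.cast_ne_zero.2 Nat.card_pos.ne'), one_mul] at h

namespace Data

variable {D : Data G}

theorem false_two (T : D.Support) (hR : RankOne G) (a : IrrCharacter G → ℤ)
    (ha : ∀ χ : IrrCharacter G, (χ : G → ℂ) (D.a ^ (2 * D.k)) = a χ) {x y : IrrCharacter G}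
    (hxy : x ≠ y) (hR2 : T.R = {x, y}) (hx : T.c x = 1) (hy : T.c y = -1) :
    (T.deg y : ℚ) = 1 + T.deg x ∧ (T.deg x : ℚ) - a x = 0 := by
  have e1 := T.degree_eq hR
  obtain ⟨e2, e3⟩ := T.defect_eq hR a D.orderOf_z ha
  rw [hR2, Finset.sum_pair hxy, hx, hy] at e1 e2 e3
  push_cast at e1 e2 e3
  refine ⟨by linarith, ?_⟩
  exact two_case (d₁ := (T.deg x : ℚ)) (d₂ := (T.deg y : ℚ)) (q₂ := (T.deg y : ℚ) - a y)
    (Nat.cast_pos.2 (T.deg_pos x)) (Nat.cast_pos.2 (T.deg_pos y)) (by linarith) (by linarith)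
    (by linarith)

theorem false_three_pos (T : D.Support) (hR : RankOne G) (a : IrrCharacter G → ℤ)
    (ha : ∀ χ : IrrCharacter G, (χ : G → ℂ) (D.a ^ (2 * D.k)) = a χ) {x y v : IrrCharacter G}
    (hxy : x ≠ y) (hxv : x ≠ v) (hyv : y ≠ v) (hR3 : T.R = {x, y, v})
    (hx : T.c x = 1) (hy : T.c y = 1) (hv : T.c v = -1) : (T.deg v : ℚ) - a v = 0 := by
  have e1 := T.degree_eq hR
  obtain ⟨e2, e3⟩ := T.defect_eq hR a D.orderOf_z ha
  rw [hR3, Finset.sum_insert (by simp [hxy, hxv]), Finset.sum_pair hyv, hx, hy, hv] at e1 e2 e3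
  push_cast at e1 e2 e3
  exact cauchy_case (d₁ := (T.deg x : ℚ)) (d₂ := (T.deg y : ℚ)) (d₃ := (T.deg v : ℚ))
    (q₁ := (T.deg x : ℚ) - a x) (q₂ := (T.deg y : ℚ) - a y)
    (Nat.cast_pos.2 (T.deg_pos x)) (Nat.cast_pos.2 (T.deg_pos y)) (Nat.cast_pos.2 (T.deg_pos v))
    (by linarith) (by linarith) (by linarith)

theorem false_three_neg (T : D.Support) (hR : RankOne G)
    (hN : ∀ N : Subgroup G, N.Normal → D.a ^ (2 * D.k) ∈ N → N = ⊤) (hk : D.k = 1)
    (a : IrrCharacter G → ℤ)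
    (ha : ∀ χ : IrrCharacter G, (χ : G → ℂ) (D.a ^ (2 * D.k)) = a χ) {x y v : IrrCharacter G}
    (hxy : x ≠ y) (hxv : x ≠ v) (hyv : y ≠ v) (hR3 : T.R = {x, y, v})
    (hx : T.c x = 1) (hy : T.c y = -1) (hv : T.c v = -1) :
    (T.deg y : ℚ) - a y = 0 ∨ (T.deg v : ℚ) - a v = 0 := by
  have e1 := T.degree_eq hR
  obtain ⟨e2, e3⟩ := T.defect_eq hR a D.orderOf_z ha
  rw [hR3, Finset.sum_insert (by simp [hxy, hxv]), Finset.sum_pair hyv, hx, hy, hv] at e1 e2 e3
  push_cast at e1 e2 e3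
  obtain ⟨a8, a4, a2⟩ := Data.congr_eight T hR hN hk y (by rw [hy]; norm_num) (ha y)
  obtain ⟨b8, b4, b2⟩ := Data.congr_eight T hR hN hk v (by rw [hv]; norm_num) (ha v)
  change (8 : ℤ) ∣ (T.deg y : ℤ) + a y + 6 * T.c y at a8
  change (4 : ℤ) ∣ (T.deg y : ℤ) - a y at a4
  change (2 : ℤ) ∣ (T.deg y : ℤ) - T.c y at a2
  change (8 : ℤ) ∣ (T.deg v : ℤ) + a v + 6 * T.c v at b8
  change (4 : ℤ) ∣ (T.deg v : ℤ) - a v at b4
  change (2 : ℤ) ∣ (T.deg v : ℤ) - T.c v at b2
  rw [hy] at a8 a2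
  rw [hv] at b8 b2
  obtain ⟨p₂, hp₂⟩ := a4
  obtain ⟨p₃, hp₃⟩ := b4
  have hqy : (T.deg y : ℚ) - a y = 4 * p₂ := by exact_mod_cast hp₂
  have hqv : (T.deg v : ℚ) - a v = 4 * p₃ := by exact_mod_cast hp₃
  have hdy : (0 : ℚ) < T.deg y := Nat.cast_pos.2 (T.deg_pos y)
  have hdv : (0 : ℚ) < T.deg v := Nat.cast_pos.2 (T.deg_pos v)
  have hdx : (0 : ℚ) < T.deg x := Nat.cast_pos.2 (T.deg_pos x)
  rw [hqy, hqv] at e2 e3
  have hqx : (T.deg x : ℚ) - a x = 4 * p₂ + 4 * p₃ := by linarith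
  have hx' : (T.deg x : ℚ) = T.deg y + T.deg v - 1 := by linarith
  rw [hqx] at e3
  have e4 : (((p₂ : ℤ) : ℚ) + p₃) ^ 2 * T.deg y * T.deg v =
      ((T.deg y : ℚ) + T.deg v - 1) * ((p₂ : ℚ) ^ 2 * T.deg v + (p₃ : ℚ) ^ 2 * T.deg y) := by
    rw [← hx']
    field_simp at e3
    linear_combination e3 / 16
  have e5 : (p₂ + p₃) ^ 2 * (T.deg y : ℤ) * T.deg v =
      ((T.deg y : ℤ) + T.deg v - 1) * (p₂ ^ 2 * T.deg v + p₃ ^ 2 * T.deg y) := by exact_mod_cast e4
  have o2 : Odd (T.deg y : ℤ) := by rw [Int.odd_iff]; omega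
  have o3 : Odd (T.deg v : ℤ) := by rw [Int.odd_iff]; omega
  rcases quaternion_case o2 o3 (by omega) (by omega) e5 with e | e
  · left; rw [hqy, e]; simp
  · right; rw [hqv, e]; simp

theorem false_of_simple (hR : RankOne G) (D : Data G)
    (hN : ∀ N : Subgroup G, N.Normal → D.a ^ (2 * D.k) ∈ N → N = ⊤) : False := by
  classical
  obtain ⟨T⟩ := D.exists_support hR
  choose a ha using fun χ : IrrCharacter G => char_involution χ D.orderOf_z
  have ha' : ∀ χ : IrrCharacter G, (χ : G → ℂ) (D.a ^ (2 * D.k)) = a χ := fun χ => (ha χ).1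
  have kill : ∀ χ ∈ T.R, (T.deg χ : ℚ) - a χ = 0 → False := by
    intro χ hχ h
    refine false_of_value_eq χ ((T.mem_R χ).1 hχ).2 hN ?_
    have : ((T.deg χ : ℕ) : ℤ) = a χ := by exact_mod_cast sub_eq_zero.1 h
    rw [ha', irr_one_eq_charDegree, ← this]
    rfl
  have e1 := T.degree_eq hR
  have hd : ∀ χ, (1 : ℚ) ≤ T.deg χ := fun χ => by exact_mod_cast T.deg_pos χ
  have hcard := T.card_R
  split_ifs at hcard with hk
  · obtain ⟨x, y, v, hxy, hxv, hyv, hR3⟩ := Finset.card_eq_three.1 hcard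
    have mx : x ∈ T.R := by simp [hR3]
    have my : y ∈ T.R := by simp [hR3]
    have mv : v ∈ T.R := by simp [hR3]
    rcases T.sign x mx with hx | hx <;> rcases T.sign y my with hy | hy <;>
      rcases T.sign v mv with hv | hv
    · rw [hR3, Finset.sum_insert (by simp [hxy, hxv]), Finset.sum_pair hyv, hx, hy, hv] at e1
      push_cast at e1
      linarith [hd x, hd y, hd v]
    · exact kill v mv (false_three_pos T hR a ha' hxy hxv hyv hR3 hx hy hv)
    · exact kill y my (false_three_pos T hR a ha' hxv hxy hyv.symm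
        (by rw [hR3]; ext; simp; tauto) hx hv hy)
    · exact (false_three_neg T hR hN hk a ha' hxy hxv hyv hR3 hx hy hv).elim (kill y my) (kill v mv)
    · exact kill x mx (false_three_pos T hR a ha' hyv hxy.symm hxv.symm
        (by rw [hR3]; ext; simp; tauto) hy hv hx)
    · exact (false_three_neg T hR hN hk a ha' hxy.symm hyv hxv
        (by rw [hR3]; ext; simp; tauto) hy hx hv).elim (kill x mx) (kill v mv)
    · exact (false_three_neg T hR hN hk a ha' hxv.symm hyv.symm hxy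
        (by rw [hR3]; ext; simp; tauto) hv hx hy).elim (kill x mx) (kill y my)
    · rw [hR3, Finset.sum_insert (by simp [hxy, hxv]), Finset.sum_pair hyv, hx, hy, hv] at e1
      push_cast at e1
      linarith [hd x, hd y, hd v]
  · obtain ⟨x, y, hxy, hR2⟩ := Finset.card_eq_two.1 hcard
    have mx : x ∈ T.R := by simp [hR2]
    have my : y ∈ T.R := by simp [hR2]
    rcases T.sign x mx with hx | hx <;> rcases T.sign y my with hy | hy
    · rw [hR2, Finset.sum_pair hxy, hx, hy] at e1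
      push_cast at e1
      linarith [hd x, hd y]
    · exact kill x mx (false_two T hR a ha' hxy hR2 hx hy).2
    · exact kill y my (false_two T hR a ha' hxy.symm (by rw [hR2, Finset.pair_comm]) hy hx).2
    · rw [hR2, Finset.sum_pair hxy, hx, hy] at e1
      push_cast at e1
      linarith [hd x, hd y]

end Data

/-- The theorem of Brauer and Suzuki, together with the cyclic case. -/
theorem inZStar : ∀ (G : Type u) [Group G] [Finite G], RankOne G → ∀ z : G, orderOf z = 2 →
    InZStar 2 z := by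
  intro G _ _
  induction hn : Nat.card G using Nat.strong_induction_on generalizing G with
  | _ n ih =>
  subst hn
  intro hR z hz
  haveI : Fact (Nat.Prime 2) := ⟨Nat.prime_two⟩
  haveI : Fintype G := Fintype.ofFinite G
  by_cases hO : pPrimeCore 2 G = ⊥
  swap
  · set O := pPrimeCore 2 G with hOdef
    haveI : O.Normal := Cfsg.Agent.FittingCores.pPrimeCore_normal 2
    have hodd : ¬ 2 ∣ Nat.card O := fun h => (Nat.prime_two.coprime_iff_not_dvd.1
      (pPrimeCore_coprime (G := G) 2).symm) h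
    have hlt : Nat.card (G ⧸ O) < Nat.card G := by
      rw [Subgroup.card_eq_card_quotient_mul_card_subgroup O]
      exact lt_mul_of_one_lt_right Nat.card_pos (Subgroup.one_lt_card_iff_ne_bot O |>.2 hO)
    have hzO : z ∉ O := fun h => hodd (hz ▸ Subgroup.orderOf_dvd_natCard O h)
    have hzo : orderOf (z : G ⧸ O) = 2 := orderOf_eq_prime
      (by rw [← QuotientGroup.mk_pow, ← hz, pow_orderOf_eq_one, QuotientGroup.mk_one])
      (by rw [Ne, QuotientGroup.eq_one_iff]; exact hzO)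
    have h := ih _ hlt (G ⧸ O) rfl (hR.quotient O hodd) (z : G ⧸ O) hzo
    intro g
    have h2 := h (g : G ⧸ O)
    rw [pPrimeCore_quotient_eq_bot 2 O hOdef, Subgroup.mem_bot] at h2
    exact (QuotientGroup.eq_one_iff _).1 h2
  have central : (∀ g : G, g * z * g⁻¹ = z) → InZStar 2 z := fun h g => by
    rw [h g, mul_inv_cancel]; exact one_mem _
  have ho : ∀ g : G, orderOf (g * z * g⁻¹) = 2 := fun g =>
    (orderOf_injective (MulAut.conj g).toMonoidHom (MulAut.conj g).injective z).trans hz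
  by_cases hN : ∀ N : Subgroup G, N.Normal → z ∈ N → N = ⊤
  swap
  · push_neg at hN
    obtain ⟨N, hNn, hzN, hNtop⟩ := hN
    have hlt : Nat.card N < Nat.card G := by
      refine lt_of_le_of_ne (Subgroup.card_le_card_group N) fun he => hNtop ?_
      exact Subgroup.eq_top_of_card_eq N he
    have h := ih _ hlt N rfl (hR.subgroup N) ⟨z, hzN⟩ (by rw [← Subgroup.orderOf_coe]; exact hz)
    haveI := hNn
    have hNO : pPrimeCore 2 N = ⊥ := by
      have h1 := pPrimeCore_map_subtype_le 2 hNn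
      rw [hO, le_bot_iff, Subgroup.map_eq_bot_iff_of_injective _ N.subtype_injective] at h1
      exact h1
    refine central fun g => hR _ z (ho g) hz ?_
    have h2 := h ⟨g * z * g⁻¹, hNn.conj_mem z hzN g⟩
    rw [hNO, Subgroup.mem_bot] at h2
    have h3 := congrArg Subtype.val h2
    simp only [Subgroup.coe_mul, Subgroup.coe_inv, OneMemClass.coe_one] at h3
    exact mul_inv_eq_iff_eq_mul.1 (mul_inv_eq_one.1 h3)
  obtain ⟨S, hS⟩ := (IsPGroup.of_card (n := 1) (by rw [Nat.card_zpowers, hz, pow_one]) :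
    IsPGroup 2 (Subgroup.zpowers z)).exists_le_sylow
  have hzS : z ∈ (S : Subgroup G) := hS (Subgroup.mem_zpowers z)
  rcases exists_data hR S with hcyc | ⟨D, hD⟩
  · have heven : 2 ∣ Nat.card G := hz ▸ orderOf_dvd_natCard z
    obtain ⟨K, hK, hK2, hKi⟩ := exists_complement S hcyc heven
    have hKbot : K = ⊥ := by
      rw [← le_bot_iff, ← hO]
      exact le_pPrimeCore hK ((Nat.prime_two.coprime_iff_not_dvd.2 hK2).symm)
    have htop : (S : Subgroup G) = ⊤ := Subgroup.eq_top_of_card_eq _ (by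
      rw [← hKi, hKbot, Subgroup.index_bot])
    haveI := hcyc
    refine central fun g => hR _ z (ho g) hz ?_
    have hg : ∀ x : G, x ∈ (S : Subgroup G) := fun x => htop ▸ Subgroup.mem_top x
    letI : CommGroup (S : Subgroup G) := IsCyclic.commGroup
    exact congrArg Subtype.val
      (mul_comm (⟨_, hg (g * z * g⁻¹)⟩ : (S : Subgroup G)) ⟨z, hzS⟩)
  · subst hD
    have he : z = D.a ^ (2 * D.k) := hR.unique_invol D.S.2 hzS D.z_mem hz D.orderOf_z
    exact (Data.false_of_simple hR D (he ▸ hN)).elim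

end Cfsg.Agent.BrauerSuzuki
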