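import Cfsg.Prelude.Def_IsolatedElements
import Cfsg.Prelude.Def_Solvable
import Cfsg.Agent.Lib.Solvable.Fitting
import Cfsg.Agent.Lib.FGStruct.AbelianCyclic
import Cfsg.Agent.Lib.Involutions.Dihedral
import Mathlib.GroupTheory.Transfer
import Mathlib.GroupTheory.IndexNormal

/-!
Groups without four-subgroups: the structure of a Sylow 2-subgroup, quotients, and a transfer lemma.
-/

set_option autoImplicit false
set_option linter.style.haveILetI false
set_option linter.unusedSectionVars false

namespace Cfsg.Agent.BrauerSuzuki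

open Cfsg Cfsg.Agent.FittingCores

universe u

/-- Commuting involutions are equal. -/
def RankOne (G : Type u) [Group G] : Prop :=
  ∀ a b : G, orderOf a = 2 → orderOf b = 2 → Commute a b → a = b

variable {G : Type u} [Group G]

theorem RankOne.of_injective {H : Type*} [Group H] (hR : RankOne G) (f : H →* G)
    (hf : Function.Injective f) : ∀ a b : H, orderOf a = 2 → orderOf b = 2 → Commute a b → a = b :=
  fun a b ha hb h => hf (hR _ _ (by rw [orderOf_injective f hf, ha])
    (by rw [orderOf_injective f hf, hb]) (h.map f))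

theorem RankOne.subgroup (hR : RankOne G) (H : Subgroup G) : RankOne H :=
  hR.of_injective H.subtype H.subtype_injective

variable [Finite G]

/-- The image in a quotient by a normal subgroup of odd order. -/
theorem RankOne.quotient (hR : RankOne G) (O : Subgroup G) [O.Normal]
    (hO : ¬ 2 ∣ Nat.card O) : RankOne (G ⧸ O) := by
  classical
  haveI : Fact (Nat.Prime 2) := ⟨Nat.prime_two⟩
  intro a b ha hb hab
  by_contra hne
  have hmul : ∀ {x : G ⧸ O}, orderOf x = 2 → x * x = 1 := fun {x} hx => by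
    rw [← pow_two, ← hx]; exact pow_orderOf_eq_one x
  let Q : Subgroup (G ⧸ O) :=
    { carrier := {x | x = 1 ∨ x = a ∨ x = b ∨ x = a * b}
      one_mem' := Or.inl rfl
      mul_mem' := fun {x y} hx hy => by
        have h1 := hmul ha
        have h2 := hmul hb
        have h3 : a * (a * b) = b := by rw [← mul_assoc, h1, one_mul]
        have h4 : b * (a * b) = a := by rw [← mul_assoc, ← hab.eq, mul_assoc, h2, mul_one]
        have h5 : a * b * a = b := by rw [hab.eq, mul_assoc, h1, mul_one]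
        have h6 : a * b * b = a := by rw [mul_assoc, h2, mul_one]
        have h7 : a * b * (a * b) = 1 := by rw [mul_assoc, h4, h1]
        rcases hx with rfl | rfl | rfl | rfl <;> rcases hy with rfl | rfl | rfl | rfl <;>
          simp [h1, h2, h3, h4, h5, h6, h7, hab.eq.symm]
      inv_mem' := fun {x} hx => by
        rcases hx with rfl | rfl | rfl | rfl
        · simp
        · exact Or.inr (Or.inl (inv_eq_of_mul_eq_one_right (hmul ha)))
        · exact Or.inr (Or.inr (Or.inl (inv_eq_of_mul_eq_one_right (hmul hb))))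
        · refine Or.inr (Or.inr (Or.inr (inv_eq_of_mul_eq_one_right ?_)))
          rw [hab.symm.mul_mul_mul_comm, hmul ha, hmul hb, one_mul] }
  set R := Q.comap (QuotientGroup.mk' O) with hRdef
  obtain ⟨T⟩ : Nonempty (Sylow 2 R) := inferInstance
  -- a Sylow subgroup maps onto the four-group
  have hsurj : ∀ x ∈ Q, ∃ t : (T : Subgroup R), QuotientGroup.mk' O ((t : R) : G) = x := by
    intro x hx
    obtain ⟨y, rfl⟩ := QuotientGroup.mk'_surjective O x
    let φ : R →* G ⧸ O := (QuotientGroup.mk' O).comp R.subtype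
    have hx2 : QuotientGroup.mk' O y ^ 2 = 1 := by
      rw [pow_two]
      rcases hx with e | e | e | e <;> rw [e]
      · rw [one_mul]
      · exact hmul ha
      · exact hmul hb
      · rw [hab.symm.mul_mul_mul_comm, hmul ha, hmul hb, one_mul]
    obtain ⟨e, m, hm, hom⟩ := Nat.exists_eq_pow_mul_and_not_dvd (orderOf_pos (⟨y, hx⟩ : R)).ne' 2 (by norm_num)
    -- the 2-part of the element
    set t : R := (⟨y, hx⟩ : R) ^ m with ht
    have hto : orderOf t = 2 ^ e := by
      rw [ht, orderOf_pow, hom, Nat.gcd_eq_right (Dvd.intro_left _ rfl),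
        Nat.mul_div_cancel _ (Nat.pos_of_ne_zero (by rintro rfl; exact hm (dvd_zero 2)))]
    have hφt : φ t = QuotientGroup.mk' O y := by
      obtain ⟨j, rfl⟩ : Odd m := Nat.not_even_iff_odd.1 fun h => hm h.two_dvd
      rw [ht, map_pow]
      show QuotientGroup.mk' O y ^ (2 * j + 1) = _
      rw [pow_succ, pow_mul, hx2, one_pow, one_mul]
    obtain ⟨T', hT'⟩ := (IsPGroup.of_card (n := e) (by rw [Nat.card_zpowers, hto]) :
      IsPGroup 2 (Subgroup.zpowers t)).exists_le_sylow
    obtain ⟨g, hg⟩ := MulAction.exists_smul_eq R T' T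
    have hgt : g * t * g⁻¹ ∈ (T : Subgroup R) := by
      rw [← hg, Sylow.coe_subgroup_smul]
      exact Subgroup.smul_mem_pointwise_smul t (MulAut.conj g) _ (hT' (Subgroup.mem_zpowers t))
    refine ⟨⟨_, hgt⟩, ?_⟩
    show φ (g * t * g⁻¹) = _
    rw [map_mul, map_mul, map_inv, hφt]
    have hA : ∀ v ∈ Q, Commute a v ∧ Commute b v := by
      intro v hv
      rcases hv with rfl | rfl | rfl | rfl
      · exact ⟨Commute.one_right _, Commute.one_right _⟩
      · exact ⟨Commute.refl _, hab.symm⟩
      · exact ⟨hab, Commute.refl _⟩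
      · exact ⟨(Commute.refl a).mul_right hab, hab.symm.mul_right (Commute.refl b)⟩
    have hcomm : ∀ u v : G ⧸ O, u ∈ Q → v ∈ Q → u * v = v * u := by
      intro u v hu hv
      obtain ⟨h1, h2⟩ := hA v hv
      rcases hu with rfl | rfl | rfl | rfl
      exacts [(Commute.one_left v).eq, h1.eq, h2.eq, (h1.mul_left h2).eq]
    rw [hcomm (φ g) _ g.2 hx, mul_inv_cancel_right]
  obtain ⟨ta, hta⟩ := hsurj a (Or.inr (Or.inl rfl))
  obtain ⟨tb, htb⟩ := hsurj b (Or.inr (Or.inr (Or.inl rfl)))
  let ψ : (T : Subgroup R) →* G ⧸ O :=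
    ((QuotientGroup.mk' O).comp R.subtype).comp (T : Subgroup R).subtype
  have hψ : Function.Injective ψ := by
    rw [injective_iff_map_eq_one]
    intro t ht
    have hO' : ((t : R) : G) ∈ O := (QuotientGroup.eq_one_iff _).1 ht
    obtain ⟨j, hj⟩ := IsPGroup.iff_orderOf.1 T.2 t
    have hdvd : orderOf ((t : R) : G) ∣ Nat.card O := Subgroup.orderOf_dvd_natCard _ hO'
    rw [Subgroup.orderOf_coe, Subgroup.orderOf_coe, hj] at hdvd
    rcases Nat.eq_zero_or_pos j with rfl | h
    · exact orderOf_eq_one_iff.1 (by simpa using hj)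
    · exact absurd ((dvd_pow_self 2 h.ne').trans hdvd) hO
  have hRT := (hR.subgroup R).subgroup (T : Subgroup R)
  have oa : orderOf ta = 2 := by rw [← orderOf_injective ψ hψ, show ψ ta = a from hta, ha]
  have ob : orderOf tb = 2 := by rw [← orderOf_injective ψ hψ, show ψ tb = b from htb, hb]
  have hc : Commute ta tb := hψ (by
    rw [map_mul, map_mul, show ψ ta = a from hta, show ψ tb = b from htb, hab.eq])
  exact hne (by rw [← hta, ← htb, hRT ta tb oa ob hc])

/-- An involution in a 2-group is the only one. -/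
theorem RankOne.unique_invol (hR : RankOne G) {S : Subgroup G} (hS : IsPGroup 2 S) {x y : G}
    (hx : x ∈ S) (hy : y ∈ S) (hxo : orderOf x = 2) (hyo : orderOf y = 2) : x = y := by
  haveI : Fact (Nat.Prime 2) := ⟨Nat.prime_two⟩
  haveI : Nontrivial S := ⟨⟨⟨x, hx⟩, 1, fun h => Invol.ne_one hxo (congrArg Subtype.val h)⟩⟩
  haveI := hS.center_nontrivial
  obtain ⟨j, hj⟩ := IsPGroup.iff_card.1 (hS.to_subgroup (Subgroup.center S))
  obtain ⟨c, hc⟩ := exists_prime_orderOf_dvd_card' (p := 2)
    (show 2 ∣ Nat.card (Subgroup.center S) by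
      have h1 : 1 < Nat.card (Subgroup.center S) := Finite.one_lt_card
      rw [hj] at h1 ⊢
      exact dvd_pow_self 2 (by rintro rfl; simp at h1))
  have hco : orderOf ((c : S) : G) = 2 := by rw [Subgroup.orderOf_coe, Subgroup.orderOf_coe, hc]
  have key : ∀ {u : G}, u ∈ S → orderOf u = 2 → u = ((c : S) : G) := fun {u} hu huo =>
    hR u _ huo hco (congrArg Subtype.val (Subgroup.mem_center_iff.1 c.2 ⟨u, hu⟩))
  rw [key hx hxo, key hy hyo]

theorem abCyclic (hR : RankOne G) {S : Subgroup G} (hS : IsPGroup 2 S) : AbCyc.AbCyclic S := by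
  classical
  intro A hA
  haveI : Fact (Nat.Prime 2) := ⟨Nat.prime_two⟩
  haveI := Fintype.ofFinite A
  letI : CommGroup A := { (inferInstance : Group A) with mul_comm := hA.is_comm.comm }
  refine isCyclic_of_card_pow_eq_one_le fun n hn => ?_
  -- solutions of `x ^ 2 ^ j = 1`
  have key : ∀ j : ℕ, (Finset.univ.filter fun x : A => x ^ 2 ^ j = 1).card ≤ 2 ^ j := by
    intro j
    induction j with
    | zero => simp [Finset.filter_eq']
    | succ j ih =>
      refine le_trans (Finset.card_le_mul_card_image (f := fun x : A => x ^ 2)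
        (s := Finset.univ.filter fun x : A => x ^ 2 ^ (j + 1) = 1) 2 ?_) ?_
      · intro y hy
        rcases (Finset.filter (fun x => x ^ 2 = y)
          (Finset.univ.filter fun x : A => x ^ 2 ^ (j + 1) = 1)).eq_empty_or_nonempty with h | ⟨x₀, hx₀⟩
        · simp [h]
        · simp only [Finset.mem_filter, Finset.mem_univ, true_and] at hx₀
          by_cases h2 : ∃ e : A, orderOf e = 2
          · obtain ⟨e, he⟩ := h2
            refine le_trans (Finset.card_le_card (t := {x₀, e * x₀}) fun x hx => ?_) Finset.card_le_two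
            simp only [Finset.mem_filter, Finset.mem_univ, true_and] at hx
            have hd : (x * x₀⁻¹) ^ 2 = 1 := by rw [mul_pow, inv_pow, hx.2, hx₀.2, mul_inv_cancel]
            by_cases h1 : x * x₀⁻¹ = 1
            · simp [mul_inv_eq_one.1 h1]
            · have ho : orderOf (x * x₀⁻¹) = 2 := orderOf_eq_prime hd h1
              have : x * x₀⁻¹ = e := Subtype.ext (Subtype.ext (hR.unique_invol hS
                (x * x₀⁻¹ : A).1.2 e.1.2 (by rw [Subgroup.orderOf_coe, Subgroup.orderOf_coe, ho])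
                (by rw [Subgroup.orderOf_coe, Subgroup.orderOf_coe, he])))
              simp [← this]
          · refine le_trans (Finset.card_le_one.2 fun x hx x' hx' => ?_) one_le_two
            simp only [Finset.mem_filter, Finset.mem_univ, true_and] at hx hx'
            by_contra hne
            exact h2 ⟨x * x'⁻¹, orderOf_eq_prime (by rw [mul_pow, inv_pow, hx.2, hx'.2, mul_inv_cancel])
              fun h => hne (mul_inv_eq_one.1 h)⟩
      · rw [pow_succ' 2 j]
        refine Nat.mul_le_mul_left 2 (le_trans (Finset.card_le_card fun y hy => ?_) ih)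
        obtain ⟨x, hx, rfl⟩ := Finset.mem_image.1 hy
        simp only [Finset.mem_filter, Finset.mem_univ, true_and] at hx ⊢
        rw [← pow_mul]; exact hx
  obtain ⟨e, m, hm, rfl⟩ := Nat.exists_eq_pow_mul_and_not_dvd hn.ne' 2 (by norm_num)
  refine le_trans (Finset.card_le_card (t := Finset.univ.filter fun x : A => x ^ 2 ^ e = 1)
    fun x hx => ?_) ((key e).trans (Nat.le_mul_of_pos_right _ (Nat.pos_of_ne_zero (by
      rintro rfl; exact hm (dvd_zero 2)))))
  simp only [Finset.mem_filter, Finset.mem_univ, true_and] at hx ⊢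
  obtain ⟨i, hi⟩ := IsPGroup.iff_orderOf.1 (hS.to_subgroup A) x
  rw [← orderOf_dvd_iff_pow_eq_one, hi] at hx ⊢
  exact (Nat.Coprime.pow_left i (Nat.prime_two.coprime_iff_not_dvd.2 hm)).dvd_of_dvd_mul_right hx

/-- Generators of a non-cyclic Sylow 2-subgroup. -/
structure Data (G : Type u) [Group G] where
  /-- The Sylow subgroup. -/
  S : Sylow 2 G
  /-- A generator of the cyclic subgroup of index two. -/
  a : G
  /-- An element outside. -/
  b : G
  /-- A quarter of the order of `a`. -/
  k : ℕ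
  k_pos : 0 < k
  order_a : orderOf a = 4 * k
  a_mem : a ∈ (S : Subgroup G)
  b_mem : b ∈ (S : Subgroup G)
  b_not : b ∉ Subgroup.zpowers a
  card_S : Nat.card (S : Subgroup G) = 8 * k
  out : ∀ x ∈ (S : Subgroup G), x ∉ Subgroup.zpowers a → x * x = a ^ (2 * k) ∧ x * a * x⁻¹ = a⁻¹

theorem exists_data (hR : RankOne G) (S : Sylow 2 G) :
    IsCyclic (S : Subgroup G) ∨ ∃ D : Data G, D.S = S := by
  haveI : Fact (Nat.Prime 2) := ⟨Nat.prime_two⟩
  rcases AbCyc.structure_of_pGroup (abCyclic hR S.2) S.2 with h | ⟨-, A, hAn, hA, hidx, h4, hout, -⟩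
  · exact Or.inl h
  right
  obtain ⟨g, hg⟩ := hA.exists_generator
  have hAz : A = Subgroup.zpowers (g : (S : Subgroup G)) := by
    refine le_antisymm (fun x hx => ?_) (Subgroup.zpowers_le.2 g.2)
    obtain ⟨j, hj⟩ := Subgroup.mem_zpowers_iff.1 (hg ⟨x, hx⟩)
    exact ⟨j, congrArg Subtype.val hj⟩
  have hgo : orderOf ((g : (S : Subgroup G)) : G) = Nat.card A := by
    rw [Subgroup.orderOf_coe, ← Nat.card_zpowers, ← hAz]
  obtain ⟨i, hi⟩ := IsPGroup.iff_card.1 (S.2.to_subgroup A)
  have hi2 : 2 ≤ i := by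
    by_contra h
    have : Nat.card A ≤ 2 ^ 1 := hi ▸ Nat.pow_le_pow_right (by norm_num) (by omega)
    omega
  obtain ⟨b, hb⟩ : ∃ b : (S : Subgroup G), b ∉ A := by
    by_contra h
    push_neg at h
    rw [(Subgroup.eq_top_iff' A).2 h, Subgroup.index_top] at hidx
    omega
  have hzp : ∀ x : (S : Subgroup G),
      (x : G) ∈ Subgroup.zpowers ((g : (S : Subgroup G)) : G) ↔ x ∈ A := by
    intro x
    rw [Subgroup.mem_zpowers_iff]
    constructor
    · rintro ⟨j, hj⟩
      have : x = (g : (S : Subgroup G)) ^ j := Subtype.ext (by rw [← hj]; simp)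
      rw [this]
      exact zpow_mem g.2 j
    · intro hx
      obtain ⟨j, hj⟩ := Subgroup.mem_zpowers_iff.1 (hg ⟨x, hx⟩)
      exact ⟨j, by simpa using congrArg (fun y : A => ((y : (S : Subgroup G)) : G)) hj⟩
  have hk : 2 ^ i = 4 * 2 ^ (i - 2) := by
    rw [show (4 : ℕ) = 2 ^ 2 by norm_num, ← pow_add, show 2 + (i - 2) = i by omega]
  refine ⟨⟨S, ((g : (S : Subgroup G)) : G), b, 2 ^ (i - 2), pow_pos two_pos _, by rw [hgo, hi, hk],
    (g : (S : Subgroup G)).2, b.2, fun h => hb ((hzp b).1 h), ?_, ?_⟩, rfl⟩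
  · rw [← A.card_mul_index, hidx, hi, hk]; ring
  · intro x hx hxA
    set a : G := ((g : (S : Subgroup G)) : G) with ha
    have key : ∀ y ∈ (S : Subgroup G), y ∉ Subgroup.zpowers a → y * y = a ^ (2 * 2 ^ (i - 2)) := by
      intro y hy hyA
      have ho : orderOf y = 4 := by
        rw [← hout ⟨y, hy⟩ fun h => hyA ((hzp ⟨y, hy⟩).2 h)]
        exact Subgroup.orderOf_coe (⟨y, hy⟩ : (S : Subgroup G))
      refine hR.unique_invol S.2 (mul_mem hy hy) (pow_mem (g : (S : Subgroup G)).2 _) ?_ ?_
      · rw [← pow_two, orderOf_pow_of_dvd two_ne_zero (by rw [ho]; norm_num), ho]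
      · rw [orderOf_pow_of_dvd (by positivity) (by rw [ha, hgo, hi, hk]; exact ⟨2, by ring⟩), ha,
          hgo, hi, hk, show 4 * 2 ^ (i - 2) = 2 * (2 * 2 ^ (i - 2)) by ring,
          Nat.mul_div_cancel _ (by positivity)]
    have haS : a ∈ (S : Subgroup G) := (g : (S : Subgroup G)).2
    have h1 := key x hx hxA
    have h2 := key (x * a) (mul_mem hx haS) fun h => hxA (by
      simpa using mul_mem h (inv_mem (Subgroup.mem_zpowers a)))
    refine ⟨h1, ?_⟩
    have h3 : x * (a * x * a) = x * x := by rw [h1, ← h2]; group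
    have h4' : a * x * a = x := mul_left_cancel h3
    calc x * a * x⁻¹ = a⁻¹ * (a * x * a) * x⁻¹ := by group
      _ = a⁻¹ := by rw [h4']; group

/-- Transfer: an element of order four outside `Q` with no conjugate in `Q`. -/
theorem exists_index_two {S : Sylow 2 G} (Q : Subgroup G) (hQS : Q ≤ (S : Subgroup G))
    (hQi : Q.relIndex (S : Subgroup G) = 2) {x : G} (hxS : x ∈ (S : Subgroup G)) (hxQ : x ∉ Q)
    (hx4 : x ^ 4 = 1) (hsq : ∀ g : G, g * x ^ 2 * g⁻¹ ∈ (S : Subgroup G) → g * x ^ 2 * g⁻¹ ∈ Q)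
    (hno : ∀ g : G, g * x * g⁻¹ ∉ Q) :
    ∃ M : Subgroup G, M.Normal ∧ M.index = 2 ∧ x ∉ M := by
  classical
  haveI : Fact (Nat.Prime 2) := ⟨Nat.prime_two⟩
  have hi2 : (Q.subgroupOf (S : Subgroup G)).index = 2 := hQi
  haveI : (Q.subgroupOf (S : Subgroup G)).Normal := Subgroup.normal_of_index_eq_two hi2
  set A := (S : Subgroup G) ⧸ Q.subgroupOf (S : Subgroup G)
  have hA2 : Nat.card A = 2 := hi2
  haveI : IsCyclic A := isCyclic_of_prime_card (p := 2) hA2
  letI : CommGroup A := IsCyclic.commGroup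
  let φ : (S : Subgroup G) →* A := QuotientGroup.mk' _
  let V : G →* A := MonoidHom.transfer φ
  have hz : φ ⟨x, hxS⟩ ≠ 1 := fun h => hxQ
    ((QuotientGroup.eq_one_iff (N := Q.subgroupOf (S : Subgroup G)) ⟨x, hxS⟩).1 h)
  have hz2 : φ ⟨x, hxS⟩ ^ 2 = 1 := by
    have h := pow_card_eq_one' (x := φ ⟨x, hxS⟩)
    rwa [hA2] at h
  have hnz : ∀ y : A, y ≠ 1 → y = φ ⟨x, hxS⟩ := by
    intro y hy
    by_contra hne
    haveI : Fintype A := Fintype.ofFinite A
    have h3 : ({1, y, φ ⟨x, hxS⟩} : Finset A).card ≤ 2 := by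
      refine (Finset.card_le_univ _).trans ?_
      rw [← Nat.card_eq_fintype_card, hA2]
    rw [Finset.card_insert_of_notMem (by simp [hy.symm, hz.symm]),
      Finset.card_insert_of_notMem (by simp [hne]), Finset.card_singleton] at h3
    omega
  haveI : Fintype (Quotient (MulAction.orbitRel (Subgroup.zpowers x) (G ⧸ (S : Subgroup G)))) :=
    Fintype.ofFinite _
  have hVx : V x = φ ⟨x, hxS⟩ ^ (S : Subgroup G).index := by
    rw [Subgroup.index_eq_sum_minimalPeriod (S : Subgroup G) x, ← Finset.prod_pow_eq_pow_sum]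
    simp only [V]
    rw [MonoidHom.transfer_eq_prod_quotient_orbitRel_zpowers_quot]
    refine Finset.prod_congr rfl fun q _ => ?_
    have hk : ∀ k, Function.minimalPeriod (x • ·) q.out = k → k ∣ 4 := by
      rintro k rfl
      apply Function.IsPeriodicPt.minimalPeriod_dvd
      show (fun y : G ⧸ (S : Subgroup G) => x • y)^[4] q.out = q.out
      simp only [Function.iterate_succ, Function.iterate_zero, Function.comp_apply, id_eq]
      rw [smul_smul, smul_smul, smul_smul,
        show x * x * x * x = x ^ 4 by simp [pow_succ, mul_assoc], hx4, one_smul]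
    suffices hgen : ∀ (k : ℕ) (hmem : q.out.out⁻¹ * x ^ k * q.out.out ∈ (S : Subgroup G)), k ∣ 4 →
        φ ⟨_, hmem⟩ = φ ⟨x, hxS⟩ ^ k from hgen _ _ (hk _ rfl)
    intro k hmem hk4
    have hk' : k = 1 ∨ k = 2 ∨ k = 4 := by
      have := Nat.le_of_dvd (by norm_num) hk4
      interval_cases k <;> simp at hk4 ⊢
    rcases hk' with rfl | rfl | rfl
    · refine Eq.trans ?_ (pow_one _).symm
      apply hnz
      intro h1
      apply hno (q.out.out)⁻¹
      have := (QuotientGroup.eq_one_iff _).1 h1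
      simpa [Subgroup.mem_subgroupOf] using this
    · refine Eq.trans ?_ hz2.symm
      refine (QuotientGroup.eq_one_iff _).2 (Subgroup.mem_subgroupOf.2 ?_)
      simpa using hsq (q.out.out)⁻¹ (by simpa using hmem)
    · refine Eq.trans ?_ ((show φ ⟨x, hxS⟩ ^ 4 = 1 by
        rw [show (4 : ℕ) = 2 * 2 from rfl, pow_mul, hz2, one_pow]).symm)
      convert φ.map_one
      simp [hx4]
  have hodd : φ ⟨x, hxS⟩ ^ (S : Subgroup G).index = φ ⟨x, hxS⟩ := by
    obtain ⟨k, hk⟩ : Odd (S : Subgroup G).index :=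
      Nat.not_even_iff_odd.1 (fun h => S.not_dvd_index h.two_dvd)
    rw [hk, pow_succ, pow_mul, hz2, one_pow, one_mul]
  rw [hodd] at hVx
  refine ⟨V.ker, inferInstance, ?_, fun h => hz (hVx ▸ h)⟩
  rw [Subgroup.index_ker]
  have hsurj : Function.Surjective V := by
    intro y
    by_cases hy : y = 1
    · exact ⟨1, by rw [map_one, hy]⟩
    · exact ⟨x, by rw [hVx, hnz y hy]⟩
  rw [MonoidHom.range_eq_top.2 hsurj, Subgroup.card_top, hA2]

end Cfsg.Agent.BrauerSuzuki
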