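import Cfsg.Agent.Lib.BrauerSuzuki.Basic
import Mathlib.GroupTheory.SpecificGroups.Cyclic
import Mathlib.RingTheory.RootsOfUnity.Complex

/-!
The centraliser of an element of order four: cyclic Sylow 2-subgroup, normal complement and a
linear character inverted by an outside element.
-/

set_option autoImplicit false
set_option linter.style.haveILetI false
set_option linter.unusedSectionVars false

namespace Cfsg.Agent.BrauerSuzuki

universe u

theorem exists_complement {H : Type*} [Group H] [Finite H] (P : Sylow 2 H)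
    (hP : IsCyclic P) (heven : 2 ∣ Nat.card H) :
    ∃ K : Subgroup H, K.Normal ∧ ¬ 2 ∣ Nat.card K ∧ K.index = Nat.card (P : Subgroup H) := by
  haveI : Fact (Nat.Prime 2) := ⟨Nat.prime_two⟩
  have hp : (Nat.card H).minFac = 2 := (Nat.minFac_eq_two_iff _).2 heven
  have h := hP.isComplement' hp
  exact ⟨_, MonoidHom.normal_ker _,
    MonoidHom.not_dvd_card_ker_transferSylow P (hP.normalizer_le_centralizer hp),
    h.symm.index_eq_card⟩

variable {G : Type u} [Group G] [Finite G]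

namespace Data

variable (D : Data G)

/-- The element of order four. -/
def w : G := D.a ^ D.k

/-- Its centraliser. -/
def C : Subgroup G := Subgroup.centralizer ({D.w} : Set G)

theorem mem_C {c : G} : c ∈ D.C ↔ Commute c D.w := by
  rw [C, Subgroup.mem_centralizer_singleton_iff]
  exact ⟨fun h => h, fun h => h⟩

theorem exists_k_pow : ∃ j, D.k = 2 ^ j := by
  haveI : Fact (Nat.Prime 2) := ⟨Nat.prime_two⟩
  obtain ⟨i, hi⟩ := IsPGroup.iff_card.1 D.S.2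
  rw [D.card_S] at hi
  obtain ⟨j, -, hj⟩ := (Nat.dvd_prime_pow Nat.prime_two).1 (Dvd.intro_left 8 hi)
  exact ⟨j, hj⟩

theorem orderOf_w : orderOf D.w = 4 := by
  rw [w, orderOf_pow_of_dvd D.k_pos.ne' (by rw [D.order_a]; exact ⟨4, by ring⟩), D.order_a,
    Nat.mul_div_cancel _ D.k_pos]

theorem w_sq : D.w ^ 2 = D.a ^ (2 * D.k) := by rw [w, ← pow_mul, mul_comm]

theorem orderOf_z : orderOf (D.a ^ (2 * D.k)) = 2 := by
  rw [orderOf_pow_of_dvd (by have := D.k_pos; omega) (by rw [D.order_a]; exact ⟨2, by ring⟩),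
    D.order_a, show 4 * D.k = 2 * (2 * D.k) by ring,
    Nat.mul_div_cancel _ (by have := D.k_pos; omega)]

theorem z_mem : D.a ^ (2 * D.k) ∈ (D.S : Subgroup G) := pow_mem D.a_mem _

theorem w_mem : D.w ∈ (D.S : Subgroup G) := pow_mem D.a_mem _

theorem a_mem_C : D.a ∈ D.C := D.mem_C.2 ((Commute.refl D.a).pow_right _)

theorem conj_b : D.b * D.a * D.b⁻¹ = D.a⁻¹ := (D.out D.b D.b_mem D.b_not).2

theorem conj_b_w : D.b * D.w * D.b⁻¹ = D.w⁻¹ := by
  rw [w, ← conj_pow, D.conj_b, inv_pow]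

theorem w_ne_inv : D.w ≠ D.w⁻¹ := by
  intro h
  have h2 : D.w ^ 2 = 1 := by rw [pow_two]; nth_rw 1 [h]; exact inv_mul_cancel _
  have := orderOf_dvd_of_pow_eq_one h2
  rw [D.orderOf_w] at this
  norm_num at this

theorem b_not_C : D.b ∉ D.C := by
  intro h
  apply D.w_ne_inv
  rw [← D.conj_b_w, (D.mem_C.1 h).eq, mul_inv_cancel_right]

theorem conj_b_inv_w : D.b⁻¹ * D.w * D.b = D.w⁻¹ := by
  have h : D.b * D.w⁻¹ * D.b⁻¹ = D.w := by
    rw [← conj_inv, D.conj_b_w, inv_inv]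
  calc D.b⁻¹ * D.w * D.b = D.b⁻¹ * (D.b * D.w⁻¹ * D.b⁻¹) * D.b := by rw [h]
    _ = D.w⁻¹ := by group

theorem conj_mem_C {c : G} (hc : c ∈ D.C) : D.b * c * D.b⁻¹ ∈ D.C := by
  have h : D.b * D.w⁻¹ * D.b⁻¹ = D.w := by
    rw [← conj_inv, D.conj_b_w, inv_inv]
  rw [mem_C, ← h]
  exact ((D.mem_C.1 hc).inv_right).map (MulAut.conj D.b).toMonoidHom

theorem inv_conj_mem_C {c : G} (hc : c ∈ D.C) : D.b⁻¹ * c * D.b ∈ D.C := by
  rw [mem_C]
  have h := ((D.mem_C.1 hc).inv_right).map (MulAut.conj D.b⁻¹).toMonoidHom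
  have h2 : D.b⁻¹ * D.w⁻¹ * D.b = D.w := by
    rw [show D.b⁻¹ * D.w⁻¹ * D.b = (D.b⁻¹ * D.w * D.b)⁻¹ by group, D.conj_b_inv_w, inv_inv]
  simpa [MulAut.conj_apply, h2] using h

/-- No element of order four of the Sylow subgroup is central in it. -/
theorem exists_not_commute {x : G} (hx : x ∈ (D.S : Subgroup G)) (hxo : orderOf x = 4) :
    ∃ y ∈ (D.S : Subgroup G), ¬ Commute y x := by
  by_cases h : x ∈ Subgroup.zpowers D.a
  · refine ⟨D.b, D.b_mem, fun hc => ?_⟩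
    obtain ⟨j, rfl⟩ := Subgroup.mem_zpowers_iff.1 h
    have h1 : D.b * D.a ^ j * D.b⁻¹ = (D.a ^ j)⁻¹ := by rw [← conj_zpow, D.conj_b, inv_zpow]
    rw [hc.eq, mul_inv_cancel_right] at h1
    have h2 : (D.a ^ j) ^ 2 = 1 := by rw [pow_two]; nth_rw 1 [h1]; exact inv_mul_cancel _
    have := orderOf_dvd_of_pow_eq_one h2
    rw [hxo] at this
    norm_num at this
  · refine ⟨D.a, D.a_mem, fun hc => ?_⟩
    have h1 := (D.out x hx h).2
    rw [← hc.eq, mul_inv_cancel_right] at h1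
    have h2 : D.a ^ 2 = 1 := by rw [pow_two]; nth_rw 1 [h1]; exact inv_mul_cancel _
    have := orderOf_dvd_of_pow_eq_one h2
    rw [D.order_a] at this
    have := Nat.le_of_dvd two_pos this
    have := D.k_pos
    omega

theorem card_le_of_pGroup {P : Subgroup G} (hP : IsPGroup 2 P) (hPC : P ≤ D.C) (hw : D.w ∈ P) :
    Nat.card P ≤ 4 * D.k := by
  haveI : Fact (Nat.Prime 2) := ⟨Nat.prime_two⟩
  obtain ⟨T, hT⟩ := hP.exists_le_sylow
  obtain ⟨g, hg⟩ := MulAction.exists_smul_eq G T D.S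
  set f : G →* G := (MulAut.conj g).toMonoidHom with hf
  have hfi : Function.Injective f := (MulAut.conj g).injective
  have hle : P.map f ≤ (D.S : Subgroup G) := by
    rw [← hg, Sylow.coe_subgroup_smul]
    rintro _ ⟨x, hx, rfl⟩
    exact Subgroup.smul_mem_pointwise_smul x (MulAut.conj g) _ (hT hx)
  have hwS : f D.w ∈ (D.S : Subgroup G) := hle ⟨_, hw, rfl⟩
  obtain ⟨y, hy, hyc⟩ := D.exists_not_commute hwS (by rw [orderOf_injective f hfi, D.orderOf_w])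
  have hlt : P.map f < (D.S : Subgroup G) := by
    refine lt_of_le_of_ne hle fun he => hyc ?_
    obtain ⟨x, hx, hxy⟩ := he.symm ▸ hy
    rw [← hxy]
    exact (D.mem_C.1 (hPC hx)).map f
  have hcard : Nat.card (P.map f) = Nat.card P :=
    (Nat.card_congr (P.equivMapOfInjective f hfi).toEquiv).symm
  have hdvd : Nat.card (P.map f) ∣ 8 * D.k := D.card_S ▸ Subgroup.card_dvd_of_le hle
  have hne : Nat.card (P.map f) ≠ 8 * D.k := fun he =>
    hlt.ne (Subgroup.eq_of_le_of_card_ge hle (by rw [he, D.card_S]))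
  obtain ⟨m, hm⟩ := hdvd
  rw [← hcard]
  have hk := D.k_pos
  rcases m with _ | _ | m
  · omega
  · omega
  · nlinarith

theorem exists_sylow :
    ∃ P : Sylow 2 D.C, (P : Subgroup D.C) = Subgroup.zpowers (⟨D.a, D.a_mem_C⟩ : D.C) := by
  haveI : Fact (Nat.Prime 2) := ⟨Nat.prime_two⟩
  set A := Subgroup.zpowers (⟨D.a, D.a_mem_C⟩ : D.C) with hA
  have hAc : Nat.card A = 4 * D.k := by
    rw [hA, Nat.card_zpowers, ← Subgroup.orderOf_coe, D.order_a]
  obtain ⟨j, hj⟩ := D.exists_k_pow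
  have hAp : IsPGroup 2 A := IsPGroup.of_card (n := 2 + j) (by rw [hAc, hj, pow_add]; norm_num)
  obtain ⟨P, hP⟩ := hAp.exists_le_sylow
  refine ⟨P, (Subgroup.eq_of_le_of_card_ge hP ?_).symm⟩
  have h := D.card_le_of_pGroup (P := (P : Subgroup D.C).map D.C.subtype) (P.2.map _)
    (by rintro _ ⟨x, -, rfl⟩; exact x.2)
    ⟨(⟨D.a, D.a_mem_C⟩ : D.C) ^ D.k, hP (pow_mem (Subgroup.mem_zpowers _) _), by simp [w]⟩
  rw [Subgroup.card_map_of_injective D.C.subtype_injective] at h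
  rwa [hAc]

theorem two_dvd_card_C : 2 ∣ Nat.card D.C := by
  have h : orderOf (⟨D.a, D.a_mem_C⟩ : D.C) ∣ Nat.card D.C := orderOf_dvd_natCard _
  rw [← Subgroup.orderOf_coe, D.order_a] at h
  exact dvd_trans ⟨2 * D.k, by ring⟩ h

theorem exists_K : ∃ K : Subgroup D.C, K.Normal ∧ ¬ 2 ∣ Nat.card K ∧ K.index = 4 * D.k ∧
    ∀ x : D.C ⧸ K, ∃ j : ℕ, x = ((⟨D.a, D.a_mem_C⟩ : D.C) ^ j : D.C) := by
  haveI : Fact (Nat.Prime 2) := ⟨Nat.prime_two⟩
  obtain ⟨P, hP⟩ := D.exists_sylow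
  have hPc : IsCyclic P := by
    show IsCyclic (P : Subgroup D.C)
    rw [hP]; infer_instance
  obtain ⟨K, hK, hK2, hKi⟩ := exists_complement P hPc D.two_dvd_card_C
  rw [hP, Nat.card_zpowers] at hKi
  refine ⟨K, hK, hK2, by rw [hKi, ← Subgroup.orderOf_coe, D.order_a], fun x => ?_⟩
  haveI := hK
  set g : D.C ⧸ K := ((⟨D.a, D.a_mem_C⟩ : D.C) : D.C ⧸ K) with hg
  have hgo : orderOf g = Nat.card (D.C ⧸ K) := by
    show orderOf g = K.index
    rw [hKi]
    refine Nat.dvd_antisymm (orderOf_map_dvd (QuotientGroup.mk' K) _) ?_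
    set m := orderOf g with hm
    have h1 : (⟨D.a, D.a_mem_C⟩ : D.C) ^ m ∈ K := by
      rw [← QuotientGroup.eq_one_iff, QuotientGroup.mk_pow, ← hg, hm, pow_orderOf_eq_one]
    have h2 := Subgroup.orderOf_dvd_natCard K h1
    obtain ⟨i, hi⟩ := IsPGroup.iff_orderOf.1 P.2
      ⟨(⟨D.a, D.a_mem_C⟩ : D.C) ^ m, by rw [hP]; exact pow_mem (Subgroup.mem_zpowers _) _⟩
    rw [Subgroup.orderOf_mk] at hi
    rcases Nat.eq_zero_or_pos i with rfl | hi0
    · exact orderOf_dvd_of_pow_eq_one (orderOf_eq_one_iff.1 (by simpa using hi))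
    · exact absurd ((dvd_pow_self 2 hi0.ne').trans (hi ▸ h2)) hK2
  haveI : IsCyclic (D.C ⧸ K) := isCyclic_of_orderOf_eq_card g hgo
  have htop : Subgroup.zpowers g = ⊤ :=
    Subgroup.eq_top_of_card_eq _ (by rw [Nat.card_zpowers, hgo])
  obtain ⟨j, hj⟩ := (mem_powers_iff_mem_zpowers (x := g) (y := x)).2 (htop ▸ Subgroup.mem_top x)
  exact ⟨j, by rw [← hj, QuotientGroup.mk_pow, hg]⟩

/-- A homomorphism to an abelian group of exponent dividing a power of two that kills the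
generator of the Sylow subgroup is trivial. -/
theorem hom_eq_one (f : D.C →* ℂˣ) (ha : f ⟨D.a, D.a_mem_C⟩ = 1)
    (hexp : ∀ c, f c ^ (2 * D.k) = 1) (c : D.C) : f c = 1 := by
  haveI : Fact (Nat.Prime 2) := ⟨Nat.prime_two⟩
  obtain ⟨P, hP⟩ := D.exists_sylow
  have hPk : (P : Subgroup D.C) ≤ f.ker := by
    rw [hP, Subgroup.zpowers_le]; exact ha
  have hodd : ¬ 2 ∣ f.ker.index := fun h =>
    P.not_dvd_index (h.trans (Subgroup.index_dvd_of_le hPk))
  obtain ⟨j, hj⟩ := D.exists_k_pow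
  have h1 : orderOf (f c) ∣ 2 ^ (j + 1) := by
    rw [pow_succ', ← hj]; exact orderOf_dvd_of_pow_eq_one (hexp c)
  have h2 : orderOf (f c) ∣ f.ker.index := by
    rw [Subgroup.index_ker]
    exact Subgroup.orderOf_dvd_natCard _ ⟨c, rfl⟩
  obtain ⟨i, -, hi⟩ := (Nat.dvd_prime_pow Nat.prime_two).1 h1
  rcases Nat.eq_zero_or_pos i with rfl | hi0
  · exact orderOf_eq_one_iff.1 (by simpa using hi)
  · exact absurd ((dvd_pow_self 2 hi0.ne').trans (hi ▸ h2)) hodd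

theorem exists_mu : ∃ (μ : D.C →* ℂˣ) (K : Subgroup D.C), K.Normal ∧ ¬ 2 ∣ Nat.card K ∧
    K.index = 4 * D.k ∧ (∀ x : D.C ⧸ K, ∃ j : ℕ, x = ((⟨D.a, D.a_mem_C⟩ : D.C) ^ j : D.C)) ∧
    K ≤ μ.ker ∧ (∀ c, μ c ^ (2 * D.k) = 1) ∧ orderOf (μ ⟨D.a, D.a_mem_C⟩) = 2 * D.k := by
  obtain ⟨K, hK, hK2, hKi, hgen⟩ := D.exists_K
  haveI := hK
  have hk2 : 2 * D.k ≠ 0 := by have := D.k_pos; omega
  have hζ := Complex.isPrimitiveRoot_exp (2 * D.k) hk2
  set ζ : ℂˣ := (hζ.isUnit hk2).unit with hζdef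
  have hζo : orderOf ζ = 2 * D.k := by
    rw [← orderOf_units, IsUnit.unit_spec, ← hζ.eq_orderOf]
  set g : D.C ⧸ K := ((⟨D.a, D.a_mem_C⟩ : D.C) : D.C ⧸ K) with hg
  have hall : ∀ x, x ∈ Subgroup.zpowers g := fun x => by
    obtain ⟨j, rfl⟩ := hgen x
    rw [QuotientGroup.mk_pow]
    exact pow_mem (Subgroup.mem_zpowers _) _
  have hgo : orderOf g = 4 * D.k := by
    rw [orderOf_eq_card_of_forall_mem_zpowers hall, ← hKi, Subgroup.index]
  let η : (D.C ⧸ K) →* ℂˣ := monoidHomOfForallMemZpowers hall (g' := ζ)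
    (by rw [hζo, hgo]; exact ⟨2, by ring⟩)
  refine ⟨η.comp (QuotientGroup.mk' K), K, hK, hK2, hKi, hgen, fun x hx => ?_, fun c => ?_, ?_⟩
  · rw [MonoidHom.mem_ker, MonoidHom.comp_apply, QuotientGroup.mk'_apply,
      (QuotientGroup.eq_one_iff x).2 hx, map_one]
  · obtain ⟨j, hj⟩ := hgen (c : D.C ⧸ K)
    rw [MonoidHom.comp_apply, QuotientGroup.mk'_apply, hj, QuotientGroup.mk_pow, map_pow,
      monoidHomOfForallMemZpowers_apply_gen, ← pow_mul, mul_comm, pow_mul, ← hζo,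
      pow_orderOf_eq_one, one_pow]
  · rw [MonoidHom.comp_apply, QuotientGroup.mk'_apply, monoidHomOfForallMemZpowers_apply_gen, hζo]

theorem mu_conj {μ : D.C →* ℂˣ} (hexp : ∀ c, μ c ^ (2 * D.k) = 1) (c : D.C) :
    μ ⟨D.b * c * D.b⁻¹, D.conj_mem_C c.2⟩ * μ c = 1 := by
  let cb : D.C →* D.C :=
    { toFun := fun x => ⟨D.b * x * D.b⁻¹, D.conj_mem_C x.2⟩
      map_one' := Subtype.ext (by simp)
      map_mul' := fun x y => Subtype.ext (by simp) }
  refine D.hom_eq_one (μ.comp cb * μ) ?_ (fun x => ?_) c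
  · have : cb ⟨D.a, D.a_mem_C⟩ = (⟨D.a, D.a_mem_C⟩ : D.C)⁻¹ := Subtype.ext D.conj_b
    rw [MonoidHom.mul_apply, MonoidHom.comp_apply, this, map_inv, inv_mul_cancel]
  · rw [MonoidHom.mul_apply, mul_pow, MonoidHom.comp_apply, hexp, hexp, one_mul]

theorem eq_z (hR : RankOne G) {t : G} (ht : orderOf t = 2) (htc : t ∈ D.C) :
    t = D.a ^ (2 * D.k) :=
  hR _ _ ht D.orderOf_z (by rw [← D.w_sq]; exact (D.mem_C.1 htc).pow_right 2)

theorem eq_w {u : G} (huC : u ∈ D.C) (hu : orderOf u = 4) : u = D.w ∨ u = D.w⁻¹ := by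
  haveI : Fact (Nat.Prime 2) := ⟨Nat.prime_two⟩
  obtain ⟨P, hP⟩ := D.exists_sylow
  obtain ⟨T, hT⟩ := (IsPGroup.of_card (n := 2) (by
    rw [Nat.card_zpowers, ← Subgroup.orderOf_coe]; exact hu) :
    IsPGroup 2 (Subgroup.zpowers (⟨u, huC⟩ : D.C))).exists_le_sylow
  obtain ⟨h, hh⟩ := MulAction.exists_smul_eq D.C T P
  have hmem : h * ⟨u, huC⟩ * h⁻¹ ∈ (P : Subgroup D.C) := by
    rw [← hh, Sylow.coe_subgroup_smul]
    exact Subgroup.smul_mem_pointwise_smul _ (MulAut.conj h) _ (hT (Subgroup.mem_zpowers _))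
  rw [hP, ← mem_powers_iff_mem_zpowers] at hmem
  obtain ⟨j, hj⟩ := hmem
  have hj' : D.a ^ j = (h : G) * u * (h : G)⁻¹ := by simpa using congrArg Subtype.val hj
  have ho : orderOf (D.a ^ j) = 4 := by
    rw [hj', ← hu]
    exact orderOf_injective (MulAut.conj (h : G)).toMonoidHom (MulAut.conj (h : G)).injective u
  have key : D.a ^ j = D.w ∨ D.a ^ j = D.w⁻¹ := by
    have h4 : (D.a ^ j) ^ 4 = 1 := by rw [← ho]; exact pow_orderOf_eq_one _
    rw [← pow_mul, ← orderOf_dvd_iff_pow_eq_one, D.order_a] at h4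
    obtain ⟨t, rfl⟩ : D.k ∣ j :=
      Nat.dvd_of_mul_dvd_mul_left (show 0 < 4 by norm_num) (by rwa [mul_comm j 4] at h4)
    have hw4 : D.w ^ 4 = 1 := by rw [← D.orderOf_w]; exact pow_orderOf_eq_one _
    rw [pow_mul, show D.a ^ D.k = D.w from rfl,
      show D.w ^ t = D.w ^ (t % 4) by rw [← D.orderOf_w, pow_mod_orderOf]] at ho ⊢
    have h3 : D.w ^ 3 = D.w⁻¹ := eq_inv_of_mul_eq_one_left (by rw [← pow_succ, hw4])
    have := Nat.mod_lt t (show 4 > 0 by norm_num)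
    interval_cases h : t % 4
    · simp at ho
    · exact Or.inl (pow_one _)
    · rw [D.w_sq, D.orderOf_z] at ho; norm_num at ho
    · exact Or.inr h3
  have hcw : Commute (h : G) D.w := D.mem_C.1 h.2
  have hu' : u = (h : G)⁻¹ * D.a ^ j * (h : G) := by rw [hj']; group
  rw [hu']
  rcases key with e | e <;> rw [e]
  · left; rw [mul_assoc, ← hcw.eq, inv_mul_cancel_left]
  · right; rw [mul_assoc, ← hcw.inv_right.eq, inv_mul_cancel_left]

theorem mu_eq_one (hR : RankOne G) {μ : D.C →* ℂˣ} (hexp : ∀ c, μ c ^ (2 * D.k) = 1) {c : D.C}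
    (hc : ¬ 4 ∣ orderOf (c : G)) : μ c = 1 := by
  obtain ⟨e, m, hm, hom⟩ := Nat.exists_eq_pow_mul_and_not_dvd (orderOf_pos (c : G)).ne' 2
    (by norm_num)
  obtain ⟨j, hj⟩ := D.exists_k_pow
  have hcm : μ c ^ m = 1 := by
    have he : e ≤ 1 := by
      by_contra hlt
      exact hc (hom ▸ Dvd.dvd.mul_right (show 2 ^ 2 ∣ 2 ^ e from pow_dvd_pow 2 (by omega)) m)
    rw [← map_pow]
    rcases Nat.le_one_iff_eq_zero_or_eq_one.1 he with rfl | rfl
    · have : c ^ m = 1 := Subtype.ext (by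
        rw [SubmonoidClass.coe_pow, OneMemClass.coe_one, ← pow_orderOf_eq_one (c : G), hom]; simp)
      rw [this, map_one]
    · have ho : orderOf ((c : G) ^ m) = 2 := by
        rw [orderOf_pow_of_dvd (by rintro rfl; exact hm (dvd_zero 2)) (hom ▸ Dvd.intro_left _ rfl),
          hom, Nat.mul_div_cancel _ (Nat.pos_of_ne_zero (by rintro rfl; exact hm (dvd_zero 2)))]
        norm_num
      have : c ^ m = (⟨D.a, D.a_mem_C⟩ : D.C) ^ (2 * D.k) := Subtype.ext (by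
        simpa using D.eq_z hR ho (pow_mem c.2 m))
      rw [this, map_pow]
      exact hexp _
  have h1 : orderOf (μ c) ∣ 2 ^ (j + 1) := by
    rw [pow_succ', ← hj]; exact orderOf_dvd_of_pow_eq_one (hexp c)
  exact orderOf_eq_one_iff.1 (Nat.eq_one_of_dvd_coprimes
    (((Nat.prime_two.coprime_iff_not_dvd).2 hm).pow_left (j + 1)) h1
    (orderOf_dvd_of_pow_eq_one hcm))

/-- Elements of the centraliser with non-trivial `μ` are moved into it only by `C` and `b * C`. -/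
theorem mem_of_conj_mem {c x : G} (hc : c ∈ D.C) (h4 : 4 ∣ orderOf c)
    (hx : x⁻¹ * c * x ∈ D.C) : x ∈ D.C ∨ D.b⁻¹ * x ∈ D.C := by
  set m := orderOf c / 4 with hm
  have ho : orderOf (c ^ m) = 4 := orderOf_pow_orderOf_div (orderOf_pos c).ne' h4
  have hxm : x⁻¹ * c ^ m * x = (x⁻¹ * c * x) ^ m := by
    have := (conj_pow (a := x⁻¹) (b := c) (i := m)).symm
    simpa using this
  have h1 := D.eq_w (pow_mem hc m) ho
  have h2 := D.eq_w (pow_mem hx m) (by
    rw [← hxm, ← ho]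
    simpa using orderOf_injective (MulAut.conj x⁻¹).toMonoidHom (MulAut.conj x⁻¹).injective (c ^ m))
  rw [← hxm] at h2
  have key : x⁻¹ * D.w * x = D.w ∨ x⁻¹ * D.w * x = D.w⁻¹ := by
    have hi : ∀ v : G, x⁻¹ * v⁻¹ * x = (x⁻¹ * v * x)⁻¹ := fun v => by group
    rcases h1 with e | e <;> rw [e] at h2
    · exact h2
    · rw [hi] at h2
      rcases h2 with e' | e'
      · exact Or.inr (by rw [← inv_inv (x⁻¹ * D.w * x)]; exact congrArg Inv.inv e')
      · exact Or.inl (by rw [← inv_inv (x⁻¹ * D.w * x), e', inv_inv])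
  rcases key with e | e
  · left; rw [mem_C]
    show x * D.w = D.w * x
    nth_rw 1 [← e]; group
  · right; rw [mem_C]
    show D.b⁻¹ * x * D.w = D.w * (D.b⁻¹ * x)
    have h3 : x * D.w = D.w⁻¹ * x := by
      have h4 : x⁻¹ * D.w⁻¹ * x = D.w := by
        rw [show x⁻¹ * D.w⁻¹ * x = (x⁻¹ * D.w * x)⁻¹ by group, e, inv_inv]
      nth_rw 1 [← h4]; group
    have h5 : D.b⁻¹ * D.w⁻¹ = D.w * D.b⁻¹ := by rw [← D.conj_b_w]; group
    rw [mul_assoc, h3, ← mul_assoc, h5, mul_assoc]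

end Data

end Cfsg.Agent.BrauerSuzuki
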