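import Cfsg.Agent.Lib.BrauerSuzuki.Sylow

/-!
The exceptional classes of a group with a generalized quaternion Sylow 2-subgroup of order at least
sixteen: centraliser and normaliser of the derived group of the Sylow subgroup.
-/

set_option autoImplicit false
set_option linter.style.haveILetI false
set_option linter.unusedSectionVars false

namespace Cfsg.Agent.BrauerSuzuki

open Cfsg

universe u

theorem zpowers_eq_of_orderOf_eq {G : Type u} [Group G] [Finite G] {y x x' : G}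
    (hx : x ∈ Subgroup.zpowers y) (hx' : x' ∈ Subgroup.zpowers y) (ho : orderOf x = orderOf x') :
    Subgroup.zpowers x = Subgroup.zpowers x' := by
  classical
  set H := Subgroup.zpowers y
  haveI : IsCyclic H := inferInstanceAs (IsCyclic (Subgroup.zpowers y))
  haveI := Fintype.ofFinite H
  have hle := IsCyclic.card_pow_eq_one_le (α := H) (n := orderOf x) (orderOf_pos x)
  have hsub : ∀ z : G, z ∈ H → orderOf z = orderOf x →
      (Finset.univ.filter fun a : H => (a : G) ∈ Subgroup.zpowers z) =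
        Finset.univ.filter (fun a : H => a ^ orderOf x = 1) := by
    intro z hz hzo
    refine Finset.eq_of_subset_of_card_le ?_ (hle.trans ?_)
    · intro a ha
      simp only [Finset.mem_filter, Finset.mem_univ, true_and] at ha ⊢
      have h := orderOf_dvd_of_mem_zpowers ha
      rw [hzo, Subgroup.orderOf_coe] at h
      exact orderOf_dvd_iff_pow_eq_one.1 h
    · rw [← hzo, ← Nat.card_zpowers,
        ← Nat.card_congr (Subgroup.subgroupOfEquivOfLe (Subgroup.zpowers_le.2 hz)).toEquiv,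
        Nat.card_eq_fintype_card, Fintype.card_subtype]
      exact le_of_eq (congrArg Finset.card (Finset.filter_congr (fun a _ => Iff.rfl)))
  ext a
  have h := (hsub x hx rfl).trans (hsub x' hx' ho.symm).symm
  constructor <;> intro ha
  · have haH : a ∈ H := Subgroup.zpowers_le.2 hx ha
    simpa [ha] using Finset.ext_iff.1 h ⟨a, haH⟩
  · have haH : a ∈ H := Subgroup.zpowers_le.2 hx' ha
    simpa [ha] using Finset.ext_iff.1 h ⟨a, haH⟩

variable {G : Type u} [Group G] [Finite G]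

namespace Data

variable (D : Data G)

/-- The derived group of the Sylow subgroup. -/
def Q : Subgroup G := Subgroup.zpowers (D.a ^ 2)

theorem mem_centralizer_Q {c : G} :
    c ∈ Subgroup.centralizer (D.Q : Set G) ↔ Commute c (D.a ^ 2) := by
  rw [Q, Subgroup.mem_centralizer_iff]
  refine ⟨fun h => (h _ (Subgroup.mem_zpowers (D.a ^ 2))).symm, fun h x hx => ?_⟩
  obtain ⟨j, rfl⟩ := Subgroup.mem_zpowers_iff.1 hx
  exact (h.zpow_right j).eq.symm

theorem a_mem_CQ : D.a ∈ Subgroup.centralizer (D.Q : Set G) :=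
  D.mem_centralizer_Q.2 ((Commute.refl D.a).pow_right 2)

theorem two_dvd_k (hk : 2 ≤ D.k) : 2 ∣ D.k := by
  obtain ⟨j, hj⟩ := D.exists_k_pow
  rw [hj]
  exact dvd_pow_self 2 (by rintro rfl; simp at hj; omega)

theorem CQ_le (hk : 2 ≤ D.k) : Subgroup.centralizer (D.Q : Set G) ≤ D.C := by
  intro c hc
  obtain ⟨i, hi⟩ := D.two_dvd_k hk
  rw [mem_C, w, hi, pow_mul]
  exact (D.mem_centralizer_Q.1 hc).pow_right i

theorem orderOf_a_sq : orderOf (D.a ^ 2) = 2 * D.k := by
  rw [orderOf_pow_of_dvd two_ne_zero (by rw [D.order_a]; exact ⟨2 * D.k, by ring⟩), D.order_a]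
  omega

theorem card_Q : Nat.card D.Q = 2 * D.k := by rw [Q, Nat.card_zpowers, D.orderOf_a_sq]

theorem mul_mem_zpowers {x y : G} (hx : x ∈ (D.S : Subgroup G)) (hy : y ∈ (D.S : Subgroup G))
    (hxA : x ∉ Subgroup.zpowers D.a) (hyA : y ∉ Subgroup.zpowers D.a) :
    x⁻¹ * y ∈ Subgroup.zpowers D.a := by
  have hAS : Subgroup.zpowers D.a ≤ (D.S : Subgroup G) := Subgroup.zpowers_le.2 D.a_mem
  have h1 := ((Subgroup.zpowers D.a).subgroupOf (D.S : Subgroup G)).card_mul_index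
  rw [Nat.card_congr (Subgroup.subgroupOfEquivOfLe hAS).toEquiv, Nat.card_zpowers, D.order_a,
    D.card_S] at h1
  have h2 : ((Subgroup.zpowers D.a).subgroupOf (D.S : Subgroup G)).index = 2 := by
    have := D.k_pos
    exact Nat.eq_of_mul_eq_mul_left (show 0 < 4 * D.k by omega) (by rw [h1]; ring)
  have h := (Subgroup.mul_mem_iff_of_index_two h2 (a := (⟨x, hx⟩ : (D.S : Subgroup G))⁻¹)
    (b := ⟨y, hy⟩)).2 (by
      simp only [inv_mem_iff, Subgroup.mem_subgroupOf]
      exact ⟨fun h => absurd h hxA, fun h => absurd h hyA⟩)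
  simpa [Subgroup.mem_subgroupOf] using h

theorem commutator_eq : ⁅(D.S : Subgroup G), (D.S : Subgroup G)⁆ = D.Q := by
  have hodd : ∀ x ∈ (D.S : Subgroup G), x ∉ Subgroup.zpowers D.a → ∀ i : ℤ,
      x * D.a ^ i * x⁻¹ = D.a ^ (-i) := fun x hx hxA i => by
    rw [← conj_zpow, (D.out x hx hxA).2, inv_zpow, zpow_neg]
  have hQ : ∀ i : ℤ, D.a ^ (2 * i) ∈ D.Q := fun i => by
    rw [zpow_mul, zpow_ofNat]; exact zpow_mem (Subgroup.mem_zpowers _) i
  refine le_antisymm (Subgroup.commutator_le.2 fun x hx y hy => ?_) ?_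
  · rw [commutatorElement_def]
    by_cases h1 : x ∈ Subgroup.zpowers D.a <;> by_cases h2 : y ∈ Subgroup.zpowers D.a
    · obtain ⟨i, rfl⟩ := Subgroup.mem_zpowers_iff.1 h1
      obtain ⟨j, rfl⟩ := Subgroup.mem_zpowers_iff.1 h2
      convert one_mem D.Q using 1
      group
    · obtain ⟨i, rfl⟩ := Subgroup.mem_zpowers_iff.1 h1
      have e := hodd y hy h2 (-i)
      rw [neg_neg] at e
      rw [show D.a ^ i * y * (D.a ^ i)⁻¹ * y⁻¹ = D.a ^ i * (y * D.a ^ (-i) * y⁻¹) by group, e,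
        ← zpow_add, ← two_mul]
      exact hQ i
    · obtain ⟨j, rfl⟩ := Subgroup.mem_zpowers_iff.1 h2
      rw [hodd x hx h1 j, ← zpow_neg, ← zpow_add, ← two_mul]
      exact hQ (-j)
    · obtain ⟨i, hi⟩ := Subgroup.mem_zpowers_iff.1 (D.mul_mem_zpowers hx hy h1 h2)
      obtain rfl : y = x * D.a ^ i := by rw [hi, mul_inv_cancel_left]
      have e := hodd x hx h1 i
      rw [show x * (x * D.a ^ i) * x⁻¹ * (x * D.a ^ i)⁻¹ =
        x * ((x * D.a ^ i * x⁻¹) * D.a ^ (-i)) * x⁻¹ by group, e, ← zpow_add,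
        show -i + -i = 2 * -i by ring, hodd x hx h1]
      rw [show -(2 * -i) = 2 * i by ring]
      exact hQ i
  · rw [Q, Subgroup.zpowers_le]
    have h := Subgroup.commutator_mem_commutator (H₁ := (D.S : Subgroup G))
      (H₂ := (D.S : Subgroup G)) D.a_mem D.b_mem
    rw [commutatorElement_def] at h
    have e : D.a * D.b * D.a⁻¹ * D.b⁻¹ = D.a ^ 2 := by
      rw [show D.a * D.b * D.a⁻¹ * D.b⁻¹ = D.a * (D.b * D.a * D.b⁻¹)⁻¹ by group, D.conj_b, inv_inv,
        pow_two]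
    rwa [e] at h

theorem exists_sylow_CQ (hk : 2 ≤ D.k) :
    ∃ P : Sylow 2 (Subgroup.centralizer (D.Q : Set G)),
      (P : Subgroup (Subgroup.centralizer (D.Q : Set G))) =
        Subgroup.zpowers (⟨D.a, D.a_mem_CQ⟩ : Subgroup.centralizer (D.Q : Set G)) := by
  haveI : Fact (Nat.Prime 2) := ⟨Nat.prime_two⟩
  set a' : Subgroup.centralizer (D.Q : Set G) := ⟨D.a, D.a_mem_CQ⟩ with ha'
  have hAc : Nat.card (Subgroup.zpowers a') = 4 * D.k := by
    rw [Nat.card_zpowers, ← Subgroup.orderOf_coe, ha', D.order_a]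
  obtain ⟨j, hj⟩ := D.exists_k_pow
  have hAp : IsPGroup 2 (Subgroup.zpowers a') :=
    IsPGroup.of_card (n := 2 + j) (by rw [hAc, hj, pow_add]; norm_num)
  obtain ⟨P, hP⟩ := hAp.exists_le_sylow
  refine ⟨P, (Subgroup.eq_of_le_of_card_ge hP ?_).symm⟩
  have h := D.card_le_of_pGroup
    (P := (P : Subgroup (Subgroup.centralizer (D.Q : Set G))).map
      (Subgroup.centralizer (D.Q : Set G)).subtype) (P.2.map _)
    (by rintro _ ⟨x, -, rfl⟩; exact D.CQ_le hk x.2)
    ⟨a' ^ D.k, hP (pow_mem (Subgroup.mem_zpowers _) _), by simp [w, ha']⟩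
  rw [Subgroup.card_map_of_injective (Subgroup.centralizer (D.Q : Set G)).subtype_injective] at h
  rwa [hAc]

theorem Q_le_zpowers (hk : 2 ≤ D.k) {y : G} (hy : y ∈ Subgroup.centralizer (D.Q : Set G))
    (hd : 2 * D.k ∣ orderOf y) : D.Q ≤ Subgroup.zpowers y := by
  haveI : Fact (Nat.Prime 2) := ⟨Nat.prime_two⟩
  obtain ⟨P, hP⟩ := D.exists_sylow_CQ hk
  obtain ⟨e, m, hm, hom⟩ := Nat.exists_eq_pow_mul_and_not_dvd (orderOf_pos y).ne' 2 (by norm_num)
  set u : Subgroup.centralizer (D.Q : Set G) := ⟨y, hy⟩ ^ m with hu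
  have huo : orderOf u = 2 ^ e := by
    rw [← Subgroup.orderOf_coe, hu, SubmonoidClass.coe_pow,
      orderOf_pow_of_dvd (by rintro rfl; exact hm (dvd_zero 2)) (hom ▸ Dvd.intro_left _ rfl), hom,
      Nat.mul_div_cancel _ (Nat.pos_of_ne_zero (by rintro rfl; exact hm (dvd_zero 2)))]
  obtain ⟨T, hT⟩ := (IsPGroup.of_card (n := e) (by rw [Nat.card_zpowers, huo]) :
    IsPGroup 2 (Subgroup.zpowers u)).exists_le_sylow
  obtain ⟨c, hc⟩ := MulAction.exists_smul_eq (Subgroup.centralizer (D.Q : Set G)) T P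
  have hmem : c * u * c⁻¹ ∈ (P : Subgroup (Subgroup.centralizer (D.Q : Set G))) := by
    rw [← hc, Sylow.coe_subgroup_smul]
    exact Subgroup.smul_mem_pointwise_smul u (MulAut.conj c) _ (hT (Subgroup.mem_zpowers u))
  rw [hP, ← mem_powers_iff_mem_zpowers] at hmem
  obtain ⟨j, hj⟩ := hmem
  have hj' : D.a ^ j = (c : G) * u * (c : G)⁻¹ := by simpa using congrArg Subtype.val hj
  have hk2 : 2 * D.k ∣ 2 ^ e := by
    obtain ⟨i, hi⟩ := D.exists_k_pow
    rw [hi, ← pow_succ'] at hd ⊢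
    rw [hom] at hd
    exact (Nat.Coprime.pow_left _ (Nat.prime_two.coprime_iff_not_dvd.2 hm)).dvd_of_dvd_mul_right hd
  have ho : 2 * D.k ∣ orderOf (D.a ^ j) := by
    rw [hj', show orderOf ((c : G) * u * (c : G)⁻¹) = orderOf (u : G) from
      orderOf_injective (MulAut.conj (c : G)).toMonoidHom (MulAut.conj (c : G)).injective _,
      Subgroup.orderOf_coe, huo]
    exact hk2
  have hord : D.a ^ 2 ∈ Subgroup.zpowers (D.a ^ j) := by
    have h1 : Nat.gcd (4 * D.k) j ∣ 2 := by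
      rw [orderOf_pow, D.order_a] at ho
      have h2 := Nat.div_mul_cancel (Nat.gcd_dvd_left (4 * D.k) j)
      obtain ⟨t, ht⟩ := ho
      rw [ht] at h2
      have hk0 := D.k_pos
      exact ⟨t, by
        have h3 : (2 * D.k) * (t * Nat.gcd (4 * D.k) j) = (2 * D.k) * 2 := by
          rw [← mul_assoc, h2]; ring
        rw [mul_comm]; exact (Nat.eq_of_mul_eq_mul_left (by omega) h3).symm⟩
    obtain ⟨q, hq⟩ := h1
    have hb := Nat.gcd_eq_gcd_ab (4 * D.k) j
    rw [Subgroup.mem_zpowers_iff]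
    refine ⟨Nat.gcdB (4 * D.k) j * q, ?_⟩
    calc (D.a ^ j) ^ (Nat.gcdB (4 * D.k) j * q)
        = D.a ^ ((j : ℤ) * Nat.gcdB (4 * D.k) j * q) := by
          rw [← zpow_natCast, ← zpow_mul, mul_assoc]
      _ = (D.a ^ ((4 * D.k : ℕ) : ℤ)) ^ (Nat.gcdA (4 * D.k) j * q) *
            D.a ^ ((j : ℤ) * Nat.gcdB (4 * D.k) j * q) := by
          rw [zpow_natCast, ← D.order_a, pow_orderOf_eq_one, one_zpow, one_mul]
      _ = D.a ^ ((Nat.gcd (4 * D.k) j : ℤ) * q) := by
          rw [← zpow_mul, ← zpow_add, hb]; congr 1; ring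
      _ = D.a ^ 2 := by rw [← Nat.cast_mul, ← hq, zpow_natCast]
  have hca : (c : G)⁻¹ * D.a ^ 2 * c = D.a ^ 2 := by
    rw [mul_assoc, ← (D.mem_centralizer_Q.1 c.2).eq, inv_mul_cancel_left]
  rw [Q, Subgroup.zpowers_le, ← hca]
  obtain ⟨q, hq⟩ := Subgroup.mem_zpowers_iff.1 hord
  rw [← hq, hj', conj_zpow]
  have hux : (u : G) ^ q ∈ Subgroup.zpowers y := by
    rw [hu, SubmonoidClass.coe_pow]
    exact zpow_mem (pow_mem (Subgroup.mem_zpowers y) m) q
  convert hux using 1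
  group

end Data

end Cfsg.Agent.BrauerSuzuki
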