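import Cfsg.Agent.Lib.BrauerSuzuki.Support

/-!
The quaternion group of order eight: values of the constituents at an element of order four.
-/

set_option autoImplicit false
set_option linter.style.haveILetI false
set_option linter.unusedSectionVars false

namespace Cfsg.Agent.BrauerSuzuki

open Cfsg Cfsg.Agent.Char Cfsg.Agent.Blocks
open scoped ComplexConjugate

universe u

variable {G : Type u} [Group G] [Fintype G]

/-- Fourth roots of unity: a real sum with square sum `a`. -/
theorem four_roots : ∀ L : Multiset ℂ, (∀ z ∈ L, z ^ 4 = 1) → ∃ n₁ n₂ n₃ n₄ : ℕ,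
    Multiset.card L = n₁ + n₂ + n₃ + n₄ ∧
      L.sum = (((n₁ : ℤ) - n₃ : ℤ) : ℂ) + (((n₂ : ℤ) - n₄ : ℤ) : ℂ) * Complex.I ∧
      (L.map fun z => z ^ 2).sum = (((n₁ : ℤ) - n₂ + n₃ - n₄ : ℤ) : ℂ) := by
  intro L
  induction L using Multiset.induction with
  | empty => exact fun _ => ⟨0, 0, 0, 0, by simp, by simp, by simp⟩
  | cons z L ih =>
    intro h
    obtain ⟨n₁, n₂, n₃, n₄, e1, e2, e3⟩ := ih fun w hw => h w (Multiset.mem_cons_of_mem hw)
    have hz : z = 1 ∨ z = Complex.I ∨ z = -1 ∨ z = -Complex.I := by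
      have h4 : (z - 1) * (z + 1) * ((z - Complex.I) * (z + Complex.I)) = 0 := by
        linear_combination h z (Multiset.mem_cons_self z L) -
          (z ^ 2 - 1) * Complex.I_mul_I
      rcases mul_eq_zero.1 h4 with h5 | h5 <;> rcases mul_eq_zero.1 h5 with h6 | h6
      · exact Or.inl (sub_eq_zero.1 h6)
      · exact Or.inr (Or.inr (Or.inl (eq_neg_of_add_eq_zero_left h6)))
      · exact Or.inr (Or.inl (sub_eq_zero.1 h6))
      · exact Or.inr (Or.inr (Or.inr (eq_neg_of_add_eq_zero_left h6)))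
    rcases hz with rfl | rfl | rfl | rfl
    · exact ⟨n₁ + 1, n₂, n₃, n₄, by simp [e1]; omega, by simp [e2]; ring, by simp [e3]; ring⟩
    · exact ⟨n₁, n₂ + 1, n₃, n₄, by simp [e1]; omega, by simp [e2]; ring, by simp [e3]; ring⟩
    · exact ⟨n₁, n₂, n₃ + 1, n₄, by simp [e1]; omega, by simp [e2]; ring, by simp [e3]; ring⟩
    · exact ⟨n₁, n₂, n₃, n₄ + 1, by simp [e1]; omega, by simp [e2]; ring, by simp [e3]; ring⟩

/-- An integral value at an element of order four. -/
theorem char_order_four (χ : IrrCharacter G) {w : G} (hw : orderOf w = 4) {c a : ℤ}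
    (hc : (χ : G → ℂ) w = c) (ha : (χ : G → ℂ) (w ^ 2) = a) :
    (4 : ℤ) ∣ (charDegree (χ : G → ℂ) : ℤ) - a ∧ (2 : ℤ) ∣ (charDegree (χ : G → ℂ) : ℤ) - c := by
  obtain ⟨n, ρ, hρ, hρe⟩ := χ.2
  obtain ⟨L, -, h2, h3, -⟩ := exists_eigenvalues ρ w
  obtain ⟨n₁, n₂, n₃, n₄, e1, e2, e3⟩ := four_roots L (by rw [← hw]; exact h2)
  have hd : (charDegree (χ : G → ℂ) : ℤ) = n₁ + n₂ + n₃ + n₄ := by
    have h0 := h3 0
    simp only [pow_zero, Multiset.map_const', Multiset.sum_replicate, nsmul_eq_mul, mul_one,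
      hρe, irr_one_eq_charDegree, Nat.cast_inj] at h0
    rw [h0, e1]; push_cast; ring
  have h1 : (c : ℂ) = (((n₁ : ℤ) - n₃ : ℤ) : ℂ) + (((n₂ : ℤ) - n₄ : ℤ) : ℂ) * Complex.I := by
    rw [← hc, ← e2, ← hρe, ← pow_one w, h3 1]; simp
  have h2' : (a : ℂ) = (((n₁ : ℤ) - n₂ + n₃ - n₄ : ℤ) : ℂ) := by
    rw [← ha, ← e3, ← hρe, h3 2]
  have hre : c = (n₁ : ℤ) - n₃ := by
    have := congrArg Complex.re h1
    simp at this
    exact_mod_cast this
  have him : (0 : ℤ) = (n₂ : ℤ) - n₄ := by
    have := congrArg Complex.im h1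
    simp at this
    exact_mod_cast this
  have ha' : a = (n₁ : ℤ) - n₂ + n₃ - n₄ := by exact_mod_cast h2'
  omega

namespace Data

variable {D : Data G}

theorem eq_one_or_z_or_order_four (hR : RankOne G) (hk : D.k = 1) {x : G}
    (hx : x ∈ (D.S : Subgroup G)) : x = 1 ∨ x = D.a ^ (2 * D.k) ∨ orderOf x = 4 := by
  have h4 : x ^ 4 = 1 := by
    by_cases h : x ∈ Subgroup.zpowers D.a
    · have := orderOf_dvd_of_mem_zpowers h
      rw [D.order_a, hk] at this
      exact orderOf_dvd_iff_pow_eq_one.1 this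
    · rw [show (4 : ℕ) = 2 * 2 from rfl, pow_mul, pow_two x, (D.out x hx h).1, ← pow_mul,
        ← orderOf_dvd_iff_pow_eq_one, D.order_a]
      exact ⟨1, by ring⟩
  have hdvd : orderOf x ∣ 2 ^ 2 := orderOf_dvd_of_pow_eq_one h4
  obtain ⟨i, hi, hxi⟩ := (Nat.dvd_prime_pow Nat.prime_two).1 hdvd
  interval_cases i
  · exact Or.inl (orderOf_eq_one_iff.1 (by simpa using hxi))
  · exact Or.inr (Or.inl (hR.unique_invol D.S.2 hx D.z_mem (by simpa using hxi) D.orderOf_z))
  · exact Or.inr (Or.inr (by simpa using hxi))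

/-- All elements of order four of the Sylow subgroup are conjugate. -/
theorem conj_mem_C_of_order_four (hR : RankOne G)
    (hN : ∀ N : Subgroup G, N.Normal → D.a ^ (2 * D.k) ∈ N → N = ⊤) (hk : D.k = 1) {x : G}
    (hx : x ∈ (D.S : Subgroup G)) (hxo : orderOf x = 4) : ∃ g : G, g * x * g⁻¹ ∈ D.C := by
  have hQC : Subgroup.zpowers D.a ≤ D.C := Subgroup.zpowers_le.2 D.a_mem_C
  by_cases h : x ∈ Subgroup.zpowers D.a
  · exact ⟨1, by simpa using hQC h⟩
  by_contra hne
  push_neg at hne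
  have hQS : Subgroup.zpowers D.a ≤ (D.S : Subgroup G) := Subgroup.zpowers_le.2 D.a_mem
  have hrel : (Subgroup.zpowers D.a).relIndex (D.S : Subgroup G) = 2 := by
    have h1 := ((Subgroup.zpowers D.a).subgroupOf (D.S : Subgroup G)).card_mul_index
    rw [Nat.card_congr (Subgroup.subgroupOfEquivOfLe hQS).toEquiv, Nat.card_zpowers, D.order_a,
      D.card_S, hk] at h1
    have h2 : ((Subgroup.zpowers D.a).subgroupOf (D.S : Subgroup G)).index = 2 := by omega
    exact h2
  have hx2 : x ^ 2 = D.a ^ (2 * D.k) := by rw [pow_two, (D.out x hx h).1]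
  obtain ⟨M, hM, hMi, hxM⟩ := exists_index_two (Subgroup.zpowers D.a) hQS hrel hx h
    (by rw [← hxo]; exact pow_orderOf_eq_one x)
    (fun g hg => by
      rw [hx2] at hg ⊢
      have ho : orderOf (g * D.a ^ (2 * D.k) * g⁻¹) = 2 :=
        (orderOf_injective (MulAut.conj g).toMonoidHom (MulAut.conj g).injective _).trans D.orderOf_z
      rw [hR.unique_invol D.S.2 hg D.z_mem ho D.orderOf_z]
      exact pow_mem (Subgroup.mem_zpowers _) _)
    (fun g hg => hne g (hQC hg))
  have htop := hN M hM (hx2 ▸ Subgroup.sq_mem_of_index_two hMi x)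
  exact hxM (htop ▸ Subgroup.mem_top x)

theorem card_K_factor (T : D.Support) (hk : D.k = 1) : (Nat.card D.C).factorization 2 = 2 := by
  rw [← T.K.card_mul_index, T.index_K, hk,
    Nat.factorization_mul Nat.card_pos.ne' (by norm_num), Finsupp.add_apply,
    Nat.factorization_eq_zero_of_not_dvd T.odd, zero_add,
    show (4 * 1 : ℕ) = 2 ^ 2 by norm_num, Nat.prime_two.factorization_pow, Finsupp.single_eq_same]

theorem value_w (T : D.Support) (hR : RankOne G) (hk : D.k = 1) :
    ∀ χ : IrrCharacter G, T.c χ ≠ 0 → (χ : G → ℂ) D.w = T.c χ := by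
  classical
  haveI : Fact (Nat.Prime 2) := ⟨Nat.prime_two⟩
  haveI : Fintype D.C := Fintype.ofFinite _
  haveI := T.normal
  obtain ⟨M, hM⟩ := GlaubermanMod.exists_isPModular 2
  haveI := hM.2.1
  have haw : D.a = D.w := by rw [Data.w, hk, pow_one]
  have hx1 : ∃ i, orderOf D.w = 2 ^ i := ⟨2, by rw [D.orderOf_w]; norm_num⟩
  have hx2 : ∃ i, orderOf D.w⁻¹ = 2 ^ i := ⟨2, by rw [orderOf_inv, D.orderOf_w]; norm_num⟩
  have hcoefB : ∀ χ ∈ principalBlock M G, (T.c χ : ℂ) = conj ((χ : G → ℂ) D.w) := by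
    intro χ hχ
    have hval : ∀ c : D.C, T.μ c ≠ 1 → (χ : G → ℂ) c = (χ : G → ℂ) D.w := by
      intro c hc
      obtain ⟨j, hj⟩ := T.gen c
      set κ : D.C := ((⟨D.a, D.a_mem_C⟩ : D.C) ^ j)⁻¹ * c with hκ
      have hcκ : (c : G) = D.w ^ j * (κ : G) := by
        rw [hκ]; simp [haw]
      have hjodd : ¬ Even j := by
        rintro ⟨i, rfl⟩
        apply hc
        have : c = (⟨D.a, D.a_mem_C⟩ : D.C) ^ (i + i) * κ := by rw [hκ, mul_inv_cancel_left]
        rw [this, map_mul, T.K_ker hj, mul_one, map_pow, ← two_mul, pow_mul,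
          show (2 : ℕ) = 2 * D.k by omega, ← T.order_mu, pow_orderOf_eq_one, one_pow]
      have hjm : j % 4 = 1 ∨ j % 4 = 3 := by
        rw [Nat.even_iff] at hjodd; omega
      rw [hcκ, ← pow_mod_orderOf, D.orderOf_w]
      rcases hjm with e | e <;> rw [e]
      · rw [pow_one]
        exact irr_section_of_kernel hM hx1 (C := D.C) rfl hχ T.K T.odd hj
      · have h3 : D.w ^ 3 = D.w⁻¹ := eq_inv_of_mul_eq_one_left (by
          rw [← pow_succ, show 3 + 1 = orderOf D.w by rw [D.orderOf_w], pow_orderOf_eq_one])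
        rw [h3, irr_section_of_kernel hM hx2 (C := D.C)
          (centralizer_singleton_inv D.w).symm hχ T.K T.odd hj, ← D.conj_b_w]
        exact IsCharacter.isClassFunction (irr_isCharacter χ) D.w D.b
    rw [← T.coef χ, D.classInner_theta (IsCharacter.isClassFunction (irr_isCharacter χ))]
    have h1 := D.theta_inner_one T.order_mu
    rw [D.classInner_theta (IsCharacter.isClassFunction isCharacter_one)] at h1
    have e : Cfsg.classInner (D.seed T.μ) (fun h : D.C => (χ : G → ℂ) h) =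
        conj ((χ : G → ℂ) D.w) * Cfsg.classInner (D.seed T.μ) (fun _ : D.C => 1) := by
      simp only [Cfsg.classInner, map_one, mul_one, Finset.mul_sum]
      refine Finset.sum_congr rfl fun c _ => ?_
      rcases eq_or_ne (T.μ c) 1 with h | h
      · simp [seed, h]
      · rw [hval c h]; ring
    rw [e, h1, mul_one]
  -- the block sum
  have hblock : blockPair (principalBlock M G) D.w D.w = 4 := by
    have h := sum_normSq_section_principal hM hx1 (C := D.C) rfl (y := 1) (by simp)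
    rw [OneMemClass.coe_one, mul_one] at h
    rw [h, blockPair_principal_of_pComplement hM T.K T.odd ⟨2, by rw [T.index_K, hk]; norm_num⟩
      (by simp), Data.card_K_factor T hk]
    norm_num
  have hsumB : ∑ χ ∈ Finset.univ.filter (· ∈ principalBlock M G), T.c χ * T.c χ = 4 := by
    have h : ((∑ χ ∈ Finset.univ.filter (· ∈ principalBlock M G), T.c χ * T.c χ : ℤ) : ℂ) = 4 := by
      rw [← hblock, Int.cast_sum]
      unfold blockPair
      refine Finset.sum_congr rfl fun χ hχ => ?_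
      have e := hcoefB χ (Finset.mem_filter.1 hχ).2
      have e' : (χ : G → ℂ) D.w = (T.c χ : ℂ) := by
        have := congrArg conj e
        rw [Complex.conj_conj, map_intCast] at this
        exact this.symm
      rw [← e, e', Int.cast_mul]
    exact_mod_cast h
  intro χ hχ
  have hχB : χ ∈ principalBlock M G := by
    by_contra h
    have h1 := Finset.sum_filter_add_sum_filter_not Finset.univ (· ∈ principalBlock M G)
      (fun ψ => T.c ψ * T.c ψ)
    rw [hsumB, T.norm, if_pos hk] at h1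
    have h2 : ∑ ψ ∈ Finset.univ.filter (¬ · ∈ principalBlock M G), T.c ψ * T.c ψ = 0 := by linarith
    have h3 := (Finset.sum_eq_zero_iff_of_nonneg fun ψ _ => mul_self_nonneg (T.c ψ)).1 h2 χ
      (Finset.mem_filter.2 ⟨Finset.mem_univ _, h⟩)
    exact hχ (mul_self_eq_zero.1 h3)
  have e := congrArg conj (hcoefB χ hχB)
  rw [Complex.conj_conj, map_intCast] at e
  exact e.symm

/-- Congruences for a constituent. -/
theorem congr_eight (T : D.Support) (hR : RankOne G)
    (hN : ∀ N : Subgroup G, N.Normal → D.a ^ (2 * D.k) ∈ N → N = ⊤) (hk : D.k = 1)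
    (χ : IrrCharacter G) (hχ : T.c χ ≠ 0) {a : ℤ} (ha : (χ : G → ℂ) (D.a ^ (2 * D.k)) = a) :
    (8 : ℤ) ∣ (charDegree (χ : G → ℂ) : ℤ) + a + 6 * T.c χ ∧
    (4 : ℤ) ∣ (charDegree (χ : G → ℂ) : ℤ) - a ∧
    (2 : ℤ) ∣ (charDegree (χ : G → ℂ) : ℤ) - T.c χ := by
  classical
  haveI : Fintype (D.S : Subgroup G) := Fintype.ofFinite _
  have hw := Data.value_w T hR hk χ hχ
  refine ⟨?_, char_order_four χ D.orderOf_w hw (by rw [D.w_sq, ha])⟩
  have hcf := IsCharacter.isClassFunction (irr_isCharacter χ)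
  set one : (D.S : Subgroup G) := 1 with hone
  set z : (D.S : Subgroup G) := ⟨D.a ^ (2 * D.k), D.z_mem⟩ with hz
  have hne : z ≠ one := fun h => by
    have := D.orderOf_z
    rw [show D.a ^ (2 * D.k) = 1 from congrArg Subtype.val h, orderOf_one] at this
    norm_num at this
  have hval : ∀ x : (D.S : Subgroup G), (χ : G → ℂ) x = (T.c χ : ℂ) +
      ((if x = one then (charDegree (χ : G → ℂ) : ℂ) - T.c χ else 0) +
        (if x = z then (a : ℂ) - T.c χ else 0)) := by
    intro x
    rcases eq_one_or_z_or_order_four hR hk x.2 with h | h | h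
    · have e : x = one := Subtype.ext h
      rw [if_pos e, if_neg (e ▸ hne.symm), h, irr_one_eq_charDegree]; ring
    · have e : x = z := Subtype.ext h
      rw [if_neg (e ▸ hne), if_pos e, h, ha]; ring
    · rw [if_neg (fun e => by rw [e] at h; simp [hone] at h),
        if_neg (fun e => by rw [e] at h; simp [hz, D.orderOf_z] at h), add_zero, add_zero]
      obtain ⟨g, hg⟩ := conj_mem_C_of_order_four hR hN hk x.2 h
      have ho : orderOf (g * (x : G) * g⁻¹) = 4 :=
        (orderOf_injective (MulAut.conj g).toMonoidHom (MulAut.conj g).injective _).trans h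
      rw [← hcf (x : G) g, ← hw]
      rcases D.eq_w hg ho with e | e <;> rw [e]
      rw [← D.conj_b_w]
      exact hcf D.w D.b
  obtain ⟨m, hm⟩ := exists_sum_subgroup_eq (D.S : Subgroup G) χ
  rw [Finset.sum_congr rfl (fun x _ => hval x), Finset.sum_add_distrib, Finset.sum_add_distrib,
    Finset.sum_ite_eq', Finset.sum_ite_eq', if_pos (Finset.mem_univ _), if_pos (Finset.mem_univ _),
    Finset.sum_const, Finset.card_univ, ← Nat.card_eq_fintype_card, D.card_S, hk, nsmul_eq_mul] at hm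
  refine ⟨m, ?_⟩
  apply Int.cast_injective (α := ℂ)
  push_cast at hm ⊢
  linear_combination hm

end Data

end Cfsg.Agent.BrauerSuzuki
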