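import Cfsg.Agent.Lib.BrauerSuzuki.Sylow

/-!
The preimage of the central involution.
-/

set_option autoImplicit false
set_option linter.style.haveILetI false
set_option linter.unusedSectionVars false

namespace Cfsg.Agent.BrauerSuzuki

open Cfsg

universe u

variable {G : Type u} [Group G] [Finite G]

theorem exists_preimage (hR : RankOne G) (D : Data G) :
    ∃ M : Subgroup G, M.Normal ∧ (∀ t : G, orderOf t = 2 → t ∈ M) ∧
      ∀ y ∈ M, ¬ 4 ∣ orderOf y := by
  haveI hn : (pPrimeCore 2 G).Normal := Cfsg.Agent.FittingCores.pPrimeCore_normal 2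
  set O := pPrimeCore 2 G with hO
  have hodd : ¬ 2 ∣ Nat.card O := fun h => Nat.prime_two.coprime_iff_not_dvd.1
    (Cfsg.Agent.FittingCores.pPrimeCore_coprime (G := G) 2).symm h
  set z := D.a ^ (2 * D.k) with hz
  have hzc := central_quotient hR D.orderOf_z
  have hnorm : (Subgroup.zpowers (z : G ⧸ O)).Normal :=
    ⟨fun y hy g => by
      have hyc : y ∈ Subgroup.center (G ⧸ O) := Subgroup.zpowers_le.2 hzc hy
      rwa [Subgroup.mem_center_iff.1 hyc g, mul_inv_cancel_right]⟩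
  refine ⟨(Subgroup.zpowers (z : G ⧸ O)).comap (QuotientGroup.mk' O), hnorm.comap _, fun t ht => ?_,
    fun y hy h4 => ?_⟩
  · haveI : Fact (Nat.Prime 2) := ⟨Nat.prime_two⟩
    obtain ⟨T, hT⟩ := (IsPGroup.of_card (n := 1) (by rw [Nat.card_zpowers, ht, pow_one]) :
      IsPGroup 2 (Subgroup.zpowers t)).exists_le_sylow
    obtain ⟨g, hg⟩ := MulAction.exists_smul_eq G T D.S
    have hm : g * t * g⁻¹ ∈ (D.S : Subgroup G) := by
      rw [← hg, Sylow.coe_subgroup_smul]
      exact Subgroup.smul_mem_pointwise_smul t (MulAut.conj g) _ (hT (Subgroup.mem_zpowers t))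
    have he : g * t * g⁻¹ = z := hR.unique_invol D.S.2 hm D.z_mem
      ((orderOf_injective (MulAut.conj g).toMonoidHom (MulAut.conj g).injective t).trans ht)
      D.orderOf_z
    show (t : G ⧸ O) ∈ Subgroup.zpowers (z : G ⧸ O)
    have h1 : (z : G ⧸ O) = (g : G ⧸ O) * (t : G ⧸ O) * (g : G ⧸ O)⁻¹ := by
      rw [← he, QuotientGroup.mk_mul, QuotientGroup.mk_mul, QuotientGroup.mk_inv]
    have h2 := Subgroup.mem_center_iff.1 hzc (g : G ⧸ O)
    have h3 : (t : G ⧸ O) = (z : G ⧸ O) := by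
      have h4 : (t : G ⧸ O) = (g : G ⧸ O)⁻¹ * (z : G ⧸ O) * (g : G ⧸ O) := by rw [h1]; group
      rw [h4, mul_assoc, ← h2, inv_mul_cancel_left]
    rw [h3]
    exact Subgroup.mem_zpowers _
  · change (y : G ⧸ O) ∈ Subgroup.zpowers (z : G ⧸ O) at hy
    have h1 : orderOf (y : G ⧸ O) ∣ 2 :=
      (orderOf_dvd_of_mem_zpowers hy).trans (by
        have := orderOf_map_dvd (QuotientGroup.mk' O) z
        rwa [D.orderOf_z] at this)
    have h2 : y ^ 2 ∈ O := by
      rw [← QuotientGroup.eq_one_iff, QuotientGroup.mk_pow]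
      exact orderOf_dvd_iff_pow_eq_one.1 h1
    have h3 := Subgroup.orderOf_dvd_natCard O h2
    refine hodd (dvd_trans ?_ h3)
    rw [orderOf_pow, Nat.gcd_eq_right (dvd_trans ⟨2, rfl⟩ h4)]
    obtain ⟨i, hi⟩ := h4
    rw [hi, show 4 * i = 2 * i * 2 by ring, Nat.mul_div_cancel _ two_pos]
    exact dvd_mul_right 2 i

end Cfsg.Agent.BrauerSuzuki
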