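import Cfsg.Agent.Lib.BrauerSuzuki.Isolated

/-!
Products of a conjugate of an isolated involution and a conjugate of an involution commuting with it.
-/

set_option autoImplicit false
set_option linter.style.haveILetI false
set_option linter.unusedSectionVars false

namespace Cfsg.Agent.BrauerSuzuki

open Cfsg

universe u

variable {G : Type u} [Group G] [Finite G]

/-- Elements commuting with an isolated involution and conjugate in the group are conjugate in its
centraliser. -/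
theorem iso_control {u t q : G} (h : IsIsolated u) (hu : orderOf u = 2) (ht : Commute t u)
    (ht' : Commute (q * t * q⁻¹) u) : ∃ k : G, k * u * k⁻¹ = u ∧ k * t * k⁻¹ = q * t * q⁻¹ := by
  haveI : Fact (Nat.Prime 2) := ⟨Nat.prime_two⟩
  set C := Subgroup.centralizer ({q * t * q⁻¹} : Set G) with hC
  have huC : u ∈ C := Subgroup.mem_centralizer_singleton_iff.2 ht'.symm.eq
  have hvC : q * u * q⁻¹ ∈ C :=
    Subgroup.mem_centralizer_singleton_iff.2
      (by simpa using ((ht.symm).map (MulAut.conj q).toMonoidHom).eq)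
  have hvo : orderOf (q * u * q⁻¹) = 2 := (orderOf_conj_eq q u).trans hu
  obtain ⟨T, hT⟩ := (IsPGroup.of_card (n := 1)
    (by rw [Nat.card_zpowers, ← Subgroup.orderOf_coe, pow_one]; exact hu) :
    IsPGroup 2 (Subgroup.zpowers (⟨u, huC⟩ : C))).exists_le_sylow
  obtain ⟨T', hT'⟩ := (IsPGroup.of_card (n := 1)
    (by rw [Nat.card_zpowers, ← Subgroup.orderOf_coe, pow_one]; exact hvo) :
    IsPGroup 2 (Subgroup.zpowers (⟨q * u * q⁻¹, hvC⟩ : C))).exists_le_sylow
  obtain ⟨r, hr⟩ := MulAction.exists_smul_eq C T' T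
  have hm : r * ⟨q * u * q⁻¹, hvC⟩ * r⁻¹ ∈ (T : Subgroup C) := by
    rw [← hr, Sylow.coe_subgroup_smul]
    exact Subgroup.smul_mem_pointwise_smul _ (MulAut.conj r) _ (hT' (Subgroup.mem_zpowers _))
  refine ⟨(r : G) * q, ?_, ?_⟩
  · exact iso_eq_of_pGroup h (T.2.map C.subtype) ⟨⟨u, huC⟩, hT (Subgroup.mem_zpowers _), rfl⟩
      ⟨_, hm, by simp [mul_assoc]⟩
  · have h1 : (r : G) * (q * t * q⁻¹) = q * t * q⁻¹ * r :=
      Subgroup.mem_centralizer_singleton_iff.1 r.2
    calc (r : G) * q * t * ((r : G) * q)⁻¹ = (r : G) * (q * t * q⁻¹) * (r : G)⁻¹ := by group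
      _ = q * t * q⁻¹ := by rw [h1, mul_inv_cancel_right]

/-- The shape of a product. -/
theorem product_form {u t : G} (h : IsIsolated u) (hu : orderOf u = 2) (ht : orderOf t = 2)
    (hne : t ≠ u) (htu : Commute t u) (a f : G) :
    ∃ g c r : G, a * u * a⁻¹ * (f * t * f⁻¹) = c * r ∧ c = g * (u * t) * g⁻¹ ∧
      ¬ 2 ∣ orderOf r ∧ Commute r c ∧ Commute (a * u * a⁻¹) c ∧
      a * u * a⁻¹ * r * (a * u * a⁻¹)⁻¹ = r⁻¹ := by
  obtain ⟨x, hx⟩ : ∃ x, x = a * u * a⁻¹ := ⟨_, rfl⟩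
  obtain ⟨y, hy⟩ : ∃ y, y = f * t * f⁻¹ := ⟨_, rfl⟩
  rw [← hx, ← hy]
  have hxo : orderOf x = 2 := by rw [hx, orderOf_conj_eq, hu]
  have hyo : orderOf y = 2 := by rw [hy, orderOf_conj_eq, ht]
  have hxi : IsIsolated x := hx ▸ iso_conj h a
  have hx2 : x * x = 1 := by rw [← pow_two, ← hxo]; exact pow_orderOf_eq_one x
  have hy2 : y * y = 1 := by rw [← pow_two, ← hyo]; exact pow_orderOf_eq_one y
  have hxinv : x⁻¹ = x := inv_eq_of_mul_eq_one_right hx2
  obtain ⟨X, hX⟩ : ∃ X, X = x * y := ⟨_, rfl⟩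
  rw [← hX]
  have hinv : ∀ i : ℕ, x * X ^ i * x⁻¹ = (X ^ i)⁻¹ := by
    intro i
    rw [← conj_pow, ← inv_pow]
    congr 1
    rw [hX, mul_inv_rev x y, hxinv, inv_eq_of_mul_eq_one_right hy2, ← mul_assoc, hx2, one_mul]
  have hswap : ∀ i : ℕ, x * X ^ i = (X ^ i)⁻¹ * x := fun i => by
    rw [← hinv i, inv_mul_cancel_right]
  have hyx : y = x * X := by rw [hX, ← mul_assoc, hx2, one_mul]
  have heven : 2 ∣ orderOf X := by
    by_contra hodd
    obtain ⟨j, hj⟩ : Odd (orderOf X) := Nat.not_even_iff_odd.1 fun h => hodd h.two_dvd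
    have hs : X ^ (j + 1) * X ^ (j + 1) = X := by
      rw [← pow_add, show j + 1 + (j + 1) = orderOf X + 1 by omega, pow_succ, pow_orderOf_eq_one,
        one_mul]
    have hconj : y = (X ^ (j + 1))⁻¹ * x * X ^ (j + 1) := by
      rw [hyx]; nth_rw 1 [← hs]; rw [← mul_assoc, hswap]
    have h1 : t = (f⁻¹ * (X ^ (j + 1))⁻¹ * a) * u * (f⁻¹ * (X ^ (j + 1))⁻¹ * a)⁻¹ := by
      have h2 : t = f⁻¹ * y * f := by rw [hy]; group
      rw [h2, hconj, hx]; group
    exact hne (h1.trans (h _ (h1 ▸ htu.symm)))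
  obtain ⟨m, hm⟩ := heven
  have hm0 : 0 < m := by have := orderOf_pos X; omega
  set c := X ^ m with hc
  have hco : orderOf c = 2 := by
    rw [hc, orderOf_pow_of_dvd hm0.ne' (Dvd.intro_left 2 hm.symm), hm,
      Nat.mul_div_cancel _ hm0]
  have hc2 : c * c = 1 := by rw [← pow_two, ← hco]; exact pow_orderOf_eq_one c
  have hxc : Commute x c := by
    show x * c = c * x
    rw [hc, hswap, ← hc, inv_eq_of_mul_eq_one_right hc2]
  have hmodd : Odd m := by
    by_contra hev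
    obtain ⟨i, hi⟩ := (Nat.not_odd_iff_even.1 hev).two_dvd
    have e : X ^ i * x * (X ^ i)⁻¹ = c * x := by
      have : x * (X ^ i)⁻¹ = X ^ i * x := by
        have := hinv i
        rw [← this]
        simp only [← mul_assoc, hx2, one_mul]
        rw [hxinv]
      rw [mul_assoc, this, ← mul_assoc, ← pow_add, hc, hi, two_mul]
    have h2 := hxi (X ^ i) (by rw [e]; exact hxc.mul_right (Commute.refl x))
    rw [e, mul_eq_right] at h2
    rw [h2, orderOf_one] at hco
    omega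
  obtain ⟨j, hj⟩ := hmodd
  set s := X ^ (j + 1) with hs
  set r := X ^ (m + 1) with hr
  have hss : s * s = r := by rw [hs, hr, ← pow_add]; congr 1; omega
  have hcr : X = c * r := by
    rw [hc, hr, ← pow_add, show m + (m + 1) = orderOf X + 1 by omega, pow_succ, pow_orderOf_eq_one,
      one_mul]
  have hxs : y = s⁻¹ * (x * c) * s := by
    have hcs : Commute c s⁻¹ := ((Commute.refl X).pow_pow m (j + 1)).inv_right
    calc y = x * (c * r) := by rw [← hcr, hyx]
      _ = c * (x * s) * s := by rw [← hss, ← mul_assoc x c, hxc.eq]; simp only [mul_assoc]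
      _ = c * (s⁻¹ * x) * s := by rw [hs, hswap]
      _ = s⁻¹ * (c * x) * s := by rw [← mul_assoc c, hcs.eq, mul_assoc s⁻¹ c x]
      _ = s⁻¹ * (x * c) * s := by rw [hxc.eq]
  have h1 : x * c = s * f * t * (s * f)⁻¹ := by
    have h3 : x * c = s * y * s⁻¹ := by rw [hxs]; group
    rw [h3, hy]; group
  have ht1 : Commute (a⁻¹ * s * f * t * (a⁻¹ * s * f)⁻¹) u := by
    have h3 := ((Commute.refl x).mul_left hxc.symm).map (MulAut.conj a⁻¹).toMonoidHom
    simp only [MulEquiv.coe_toMonoidHom, MulAut.conj_apply, inv_inv] at h3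
    rw [show a⁻¹ * x * a = u by rw [hx]; group] at h3
    rw [show a⁻¹ * s * f * t * (a⁻¹ * s * f)⁻¹ = a⁻¹ * (s * f * t * (s * f)⁻¹) * a by group, ← h1]
    exact h3
  obtain ⟨k, hk1, hk2⟩ := iso_control h hu htu ht1
  refine ⟨a * k, c, r, hcr, ?_, ?_, (Commute.refl X).pow_pow (m + 1) m, hxc, hinv (m + 1)⟩
  · have h4 : a * k * (u * t) * (a * k)⁻¹ =
        (a * (k * u * k⁻¹) * a⁻¹) * (a * (k * t * k⁻¹) * a⁻¹) := by group
    rw [h4, hk1, hk2, ← hx,
      show a * (a⁻¹ * s * f * t * (a⁻¹ * s * f)⁻¹) * a⁻¹ = s * f * t * (s * f)⁻¹ by group, ← h1,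
      ← mul_assoc, hx2, one_mul]
  · intro h2
    have h3 : orderOf r ∣ m := by
      refine orderOf_dvd_of_pow_eq_one ?_
      rw [hr, ← pow_mul, show (m + 1) * m = orderOf X * (j + 1) by rw [hm, hj]; ring, pow_mul,
        pow_orderOf_eq_one, one_pow]
    have := h2.trans h3
    omega

end Cfsg.Agent.BrauerSuzuki
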