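import Cfsg.Agent.Lib.BrauerSuzuki.Theta

/-!
The constituents of the small generalized character.
-/

set_option autoImplicit false
set_option linter.style.haveILetI false
set_option linter.unusedSectionVars false

namespace Cfsg.Agent.BrauerSuzuki

open Cfsg Cfsg.Agent.Char Cfsg.Agent.Blocks
open scoped ComplexConjugate

universe u

variable {G : Type u} [Group G] [Fintype G]

namespace Data

/-- The constituents of the induced character together with the equations they satisfy. -/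
structure Support (D : Data G) where
  /-- The linear character of the centraliser. -/
  μ : D.C →* ℂˣ
  /-- The normal complement. -/
  K : Subgroup D.C
  normal : K.Normal
  odd : ¬ 2 ∣ Nat.card K
  index_K : K.index = 4 * D.k
  gen : ∀ c : D.C, ∃ j : ℕ, ((⟨D.a, D.a_mem_C⟩ : D.C) ^ j)⁻¹ * c ∈ K
  K_ker : K ≤ μ.ker
  exp : ∀ c, μ c ^ (2 * D.k) = 1
  order_mu : orderOf (μ ⟨D.a, D.a_mem_C⟩) = 2 * D.k
  /-- The coefficients. -/
  c : IrrCharacter G → ℤ
  coef : ∀ χ : IrrCharacter G, Cfsg.classInner (D.theta μ) (χ : G → ℂ) = c χ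
  norm : ∑ χ, c χ * c χ = if D.k = 1 then 4 else 3
  /-- The non-principal constituents. -/
  R : Finset (IrrCharacter G)
  mem_R : ∀ χ, χ ∈ R ↔ c χ ≠ 0 ∧ χ ≠ Char.principal G
  sign : ∀ χ ∈ R, c χ = 1 ∨ c χ = -1
  card_R : R.card = if D.k = 1 then 3 else 2
  expand : ∀ g, D.theta μ g = 1 + ∑ χ ∈ R, (c χ : ℂ) * (χ : G → ℂ) g

theorem exists_support (D : Data G) (hR : RankOne G) : Nonempty D.Support := by
  classical
  obtain ⟨μ, K, hK, hodd, hKi, hgen, hker, hexp, hμa⟩ := D.exists_mu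
  obtain ⟨c, hsum, hcoef⟩ := IsGeneralizedCharacter.exists_coeff (D.theta_isGen μ)
  have hcp : c (Char.principal G) = 1 := by
    have h := (hcoef (Char.principal G)).symm.trans (D.theta_inner_one hμa)
    exact_mod_cast h
  have hnorm : ∑ χ, c χ * c χ = if D.k = 1 then 4 else 3 := by
    have h := (IsGeneralizedCharacter.norm_eq hsum).symm.trans (D.theta_norm hR hexp hμa)
    split_ifs at h ⊢ <;> exact_mod_cast h
  set R : Finset (IrrCharacter G) :=
    Finset.univ.filter fun χ => c χ ≠ 0 ∧ χ ≠ Char.principal G with hRdef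
  have hsplit : ∀ {M : Type} [AddCommMonoid M] (f : IrrCharacter G → M),
      (∀ χ, c χ = 0 → f χ = 0) → ∑ χ, f χ = f (Char.principal G) + ∑ χ ∈ R, f χ := by
    intro M _ f hf
    rw [← Finset.add_sum_erase Finset.univ f (Finset.mem_univ (Char.principal G))]
    congr 1
    refine (Finset.sum_subset (fun χ hχ => ?_) fun χ hχ hχ' => hf χ ?_).symm
    · exact Finset.mem_erase.2 ⟨(Finset.mem_filter.1 hχ).2.2, Finset.mem_univ _⟩
    · by_contra h0
      exact hχ' (Finset.mem_filter.2 ⟨Finset.mem_univ _, h0, (Finset.mem_erase.1 hχ).1⟩)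
  have hsq : ∑ χ ∈ R, c χ * c χ = if D.k = 1 then 3 else 2 := by
    have h := hsplit (fun χ => c χ * c χ) (fun χ h => by simp [h])
    rw [hnorm, hcp] at h
    split_ifs at h ⊢ <;> omega
  have hsign : ∀ χ ∈ R, c χ = 1 ∨ c χ = -1 := by
    intro χ hχ
    have hle : c χ * c χ ≤ 3 := by
      refine le_trans (Finset.single_le_sum (fun x _ => mul_self_nonneg (c x)) hχ) ?_
      rw [hsq]; split_ifs <;> norm_num
    have hne : c χ ≠ 0 := (Finset.mem_filter.1 hχ).2.1
    have h3 : -2 < c χ ∧ c χ < 2 := ⟨by nlinarith, by nlinarith⟩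
    omega
  refine ⟨⟨μ, K, hK, hodd, hKi, fun x => ?_, hker, hexp, hμa, c, hcoef, hnorm, R,
    fun χ => by simp [hRdef], hsign, ?_, fun g => ?_⟩⟩
  · haveI := hK
    obtain ⟨j, hj⟩ := hgen (x : D.C ⧸ K)
    exact ⟨j, QuotientGroup.eq.1 hj.symm⟩
  · have h : ∑ χ ∈ R, c χ * c χ = (R.card : ℤ) := by
      rw [Finset.card_eq_sum_ones, Nat.cast_sum]
      exact Finset.sum_congr rfl fun χ hχ => by rcases hsign χ hχ with e | e <;> simp [e]
    rw [hsq] at h
    split_ifs at h ⊢ <;> omega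
  · rw [hsum, Finset.sum_apply]
    simp only [Pi.smul_apply, smul_eq_mul]
    rw [hsplit (fun χ => (c χ : ℂ) * (χ : G → ℂ) g) (fun χ h => by simp [h]), hcp]
    simp [Char.principal]

namespace Support

variable {D : Data G} (T : D.Support)

/-- The degree. -/
noncomputable def deg (_T : D.Support) (χ : IrrCharacter G) : ℕ := charDegree (χ : G → ℂ)

theorem deg_pos (χ : IrrCharacter G) : 0 < T.deg χ := by
  refine Nat.pos_of_ne_zero fun h => irr_one_ne_zero χ ?_
  rw [irr_one_eq_charDegree, show charDegree (χ : G → ℂ) = 0 from h, Nat.cast_zero]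

theorem vanish (hR : RankOne G) {g : G} (hg : ¬ 4 ∣ orderOf g) :
    1 + ∑ χ ∈ T.R, (T.c χ : ℂ) * (χ : G → ℂ) g = 0 := by
  rw [← T.expand g, D.theta_eq_zero hR T.exp hg]

theorem degree_eq (hR : RankOne G) : 1 + ∑ χ ∈ T.R, (T.c χ : ℚ) * (T.deg χ : ℚ) = 0 := by
  have h := T.vanish hR (g := 1) (by simp)
  apply Rat.cast_injective (α := ℂ)
  push_cast
  simpa [deg, irr_one_eq_charDegree] using h

theorem invol_eq (hR : RankOne G) (a : IrrCharacter G → ℤ) {z : G} (hz : orderOf z = 2)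
    (ha : ∀ χ : IrrCharacter G, (χ : G → ℂ) z = a χ) :
    1 + ∑ χ ∈ T.R, (T.c χ : ℚ) * (a χ : ℚ) = 0 := by
  have h := T.vanish hR (g := z) (by rw [hz]; norm_num)
  simp only [ha] at h
  apply Rat.cast_injective (α := ℂ)
  push_cast
  exact h

theorem square_eq (hR : RankOne G) (a : IrrCharacter G → ℤ) {z : G} (hz : orderOf z = 2)
    (ha : ∀ χ : IrrCharacter G, (χ : G → ℂ) z = a χ) :
    1 + ∑ χ ∈ T.R, (T.c χ : ℚ) * ((a χ : ℚ) ^ 2 / (T.deg χ : ℚ)) = 0 := by
  have h : ∑ j : G, (1 + ∑ χ ∈ T.R, (T.c χ : ℂ) * (χ : G → ℂ) (j⁻¹ * z * j * z)) = 0 :=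
    Finset.sum_eq_zero fun j _ => T.vanish hR (hR.not_four_dvd_conj hz j)
  rw [Finset.sum_add_distrib, Finset.sum_comm] at h
  simp only [← Finset.mul_sum, irr_sum_conj_mul, ha, Finset.sum_const, Finset.card_univ,
    nsmul_eq_mul, mul_one, ← Nat.card_eq_fintype_card, irr_one_eq_charDegree] at h
  have hN : (Nat.card G : ℂ) ≠ 0 := Nat.cast_ne_zero.2 Nat.card_pos.ne'
  apply Rat.cast_injective (α := ℂ)
  push_cast
  refine mul_left_cancel₀ hN (Eq.trans ?_ (h.trans (mul_zero _).symm))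
  rw [mul_add, mul_one, Finset.mul_sum]
  congr 1
  exact Finset.sum_congr rfl fun χ _ => by simp only [deg]; ring

theorem defect_eq (hR : RankOne G) (a : IrrCharacter G → ℤ) {z : G} (hz : orderOf z = 2)
    (ha : ∀ χ : IrrCharacter G, (χ : G → ℂ) z = a χ) :
    ∑ χ ∈ T.R, (T.c χ : ℚ) * ((T.deg χ : ℚ) - a χ) = 0 ∧
      ∑ χ ∈ T.R, (T.c χ : ℚ) * (((T.deg χ : ℚ) - a χ) ^ 2 / (T.deg χ : ℚ)) = 0 := by
  have e1 := T.degree_eq hR
  have e2 := T.invol_eq hR a hz ha
  have e3 := T.square_eq hR a hz ha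
  refine ⟨by simp only [mul_sub, Finset.sum_sub_distrib]; linarith, ?_⟩
  have : ∀ χ ∈ T.R, (T.c χ : ℚ) * (((T.deg χ : ℚ) - a χ) ^ 2 / (T.deg χ : ℚ)) =
      (T.c χ : ℚ) * (T.deg χ : ℚ) - 2 * ((T.c χ : ℚ) * a χ) +
        (T.c χ : ℚ) * ((a χ : ℚ) ^ 2 / (T.deg χ : ℚ)) := fun χ _ => by
    have : (T.deg χ : ℚ) ≠ 0 := Nat.cast_ne_zero.2 (T.deg_pos χ).ne'
    field_simp
    ring
  rw [Finset.sum_congr rfl this, Finset.sum_add_distrib, Finset.sum_sub_distrib, ← Finset.mul_sum]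
  linarith

end Support

end Data

end Cfsg.Agent.BrauerSuzuki
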