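import Cfsg.Agent.Lib.BrauerSuzuki.Cent
import Cfsg.Agent.Lib.Blocks.SecondMain
import Cfsg.Agent.Lib.Blocks.Degree
import Cfsg.Agent.Lib.Blocks.Misc
import Cfsg.Agent.Lib.Char.GlaubermanMod
import Cfsg.Agent.Lib.Char.Induction

/-!
The small generalized character induced from the centraliser of an element of order four.
-/

set_option autoImplicit false
set_option linter.style.haveILetI false
set_option linter.unusedSectionVars false

namespace Cfsg.Agent.BrauerSuzuki

open Cfsg Cfsg.Agent.Char Cfsg.Agent.Blocks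
open scoped ComplexConjugate

universe u

variable {G : Type u} [Group G] [Fintype G]

/-- Two involutions of a group of 2-rank one have a product of order prime to four. -/
theorem RankOne.not_four_dvd (hR : RankOne G) {u v : G} (hu : orderOf u = 2) (hv : orderOf v = 2) :
    ¬ 4 ∣ orderOf (u * v) := by
  intro h4
  have hu2 : u * u = 1 := by rw [← pow_two, ← hu]; exact pow_orderOf_eq_one u
  have hv2 : v * v = 1 := by rw [← pow_two, ← hv]; exact pow_orderOf_eq_one v
  set x := u * v with hx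
  set m := orderOf x / 2 with hm
  have ho : orderOf (x ^ m) = 2 :=
    orderOf_pow_orderOf_div (orderOf_pos x).ne' (dvd_trans ⟨2, rfl⟩ h4)
  have hinv : u * x * u⁻¹ = x⁻¹ := by
    rw [hx, mul_inv_rev, inv_eq_of_mul_eq_one_right hu2, inv_eq_of_mul_eq_one_right hv2,
      ← mul_assoc, hu2, one_mul]
  have hxm2 : x ^ m * x ^ m = 1 := by rw [← pow_two, ← ho]; exact pow_orderOf_eq_one _
  have hc : Commute u (x ^ m) := by
    have h1 : u * x ^ m * u⁻¹ = x ^ m := by
      rw [← conj_pow, hinv, inv_pow, inv_eq_of_mul_eq_one_right hxm2]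
    show u * x ^ m = x ^ m * u
    conv_rhs => rw [← h1]
    rw [inv_mul_cancel_right]
  have he : u = x ^ m := hR u _ hu ho hc
  have hcx : Commute u x := by rw [he]; exact (Commute.refl x).pow_left m
  have hcv : Commute u v := by
    have : Commute u (u⁻¹ * x) := ((Commute.refl u).inv_right).mul_right hcx
    rwa [hx, inv_mul_cancel_left] at this
  have huv := hR u v hu hv hcv
  rw [hx, ← huv, hu2, orderOf_one] at h4
  omega

theorem RankOne.not_four_dvd_conj (hR : RankOne G) {z : G} (hz : orderOf z = 2) (j : G) :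
    ¬ 4 ∣ orderOf (j⁻¹ * z * j * z) :=
  hR.not_four_dvd (by
    rw [← hz]
    simpa using orderOf_injective (MulAut.conj j⁻¹).toMonoidHom (MulAut.conj j⁻¹).injective z) hz

namespace Data

variable (D : Data G)

/-- The function induced. -/
noncomputable def seed (μ : D.C →* ℂˣ) : D.C → ℂ := fun c => 1 - (μ c : ℂ)

theorem seed_eq (μ : D.C →* ℂˣ) :
    D.seed μ = (fun _ => 1) - fun c => (μ c : ℂ) := rfl

theorem mu_eq_of_conj (μ : D.C →* ℂˣ) (y c : D.C) : μ (y⁻¹ * c * y) = μ c := by
  rw [map_mul, map_mul, mul_comm (μ y⁻¹) (μ c), mul_assoc, ← map_mul, inv_mul_cancel, map_one,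
    mul_one]

/-- The induced character. -/
noncomputable def theta (μ : D.C →* ℂˣ) : G → ℂ := Cfsg.indFun D.C (D.seed μ)

theorem theta_isGen (μ : D.C →* ℂˣ) : Cfsg.IsGeneralizedCharacter G (D.theta μ) := by
  haveI : Fintype D.C := Fintype.ofFinite _
  exact IsGeneralizedCharacter.indFun D.C
    ⟨_, _, isCharacter_one, IsIrrCharacter.isCharacter (isIrrCharacter_linear μ), D.seed_eq μ⟩

theorem theta_eq_zero (hR : RankOne G) {μ : D.C →* ℂˣ} (hexp : ∀ c, μ c ^ (2 * D.k) = 1) {g : G}
    (hg : ¬ 4 ∣ orderOf g) : D.theta μ g = 0 := by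
  rw [theta, indFun_apply, Finset.sum_eq_zero (fun x _ => ?_), mul_zero]
  by_cases hx : x⁻¹ * g * x ∈ D.C
  · rw [extendByZero_mem D.C _ hx, seed, D.mu_eq_one hR hexp, Units.val_one, sub_self]
    have : orderOf (x⁻¹ * g * x) = orderOf g := by
      simpa using orderOf_injective (MulAut.conj x⁻¹).toMonoidHom (MulAut.conj x⁻¹).injective g
    simpa [this] using hg
  · exact extendByZero_not_mem D.C _ hx

theorem theta_C (hR : RankOne G) {μ : D.C →* ℂˣ} (hexp : ∀ c, μ c ^ (2 * D.k) = 1) (c : D.C)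
    (hc : μ c ≠ 1) : D.theta μ c = 2 - (μ c : ℂ) - ((μ c)⁻¹ : ℂˣ) := by
  classical
  haveI : Fintype D.C := Fintype.ofFinite _
  have h4 : 4 ∣ orderOf (c : G) := by
    by_contra h
    exact hc (D.mu_eq_one hR hexp h)
  set c' : D.C := ⟨D.b⁻¹ * c * D.b, D.inv_conj_mem_C c.2⟩ with hc'
  have hmu' : μ c' = (μ c)⁻¹ := by
    have h := D.mu_conj hexp c'
    have e : (⟨D.b * (c' : G) * D.b⁻¹, D.conj_mem_C c'.2⟩ : D.C) = c :=
      Subtype.ext (by simp [hc', mul_assoc])
    rw [e] at h
    exact eq_inv_of_mul_eq_one_right h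
  set v₁ : D.C → ℂ := fun _ => 1 - (μ c : ℂ) with hv₁
  set v₂ : D.C → ℂ := fun _ => 1 - (((μ c)⁻¹ : ℂˣ) : ℂ) with hv₂
  have hterm : ∀ x : G, extendByZero D.C (D.seed μ) (x⁻¹ * (c : G) * x) =
      extendByZero D.C v₁ x + extendByZero D.C v₂ (D.b⁻¹ * x) := by
    intro x
    by_cases hx : x ∈ D.C
    · have hn : D.b⁻¹ * x ∉ D.C := fun h => D.b_not_C (by
        have := mul_mem hx (inv_mem h)
        rwa [mul_inv_rev, inv_inv, mul_inv_cancel_left] at this)
      rw [extendByZero_mem D.C _ hx, extendByZero_not_mem D.C _ hn, add_zero,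
        extendByZero_mem D.C _ (mul_mem (mul_mem (inv_mem hx) c.2) hx), seed, hv₁]
      rw [← D.mu_eq_of_conj μ ⟨x, hx⟩ c]
      rfl
    · rw [extendByZero_not_mem D.C _ hx, zero_add]
      by_cases hb : D.b⁻¹ * x ∈ D.C
      · set y : D.C := ⟨D.b⁻¹ * x, hb⟩ with hy
        have e : x⁻¹ * (c : G) * x = ((y⁻¹ * c' * y : D.C) : G) := by
          simp only [hy, hc', Subgroup.coe_mul, Subgroup.coe_inv]
          group
        rw [e, extendByZero_coe, extendByZero_mem D.C _ hb, seed, D.mu_eq_of_conj, hmu', hv₂]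
      · rw [extendByZero_not_mem D.C _ hb, extendByZero_not_mem]
        exact fun h => (D.mem_of_conj_mem c.2 h4 h).elim hx hb
  have hs : ∀ v : D.C → ℂ, ∑ x : G, extendByZero D.C v x = ∑ h : D.C, v h := fun v => by
    simpa using sum_mul_extendByZero D.C v (fun _ => (1 : ℂ))
  have hN : (Nat.card D.C : ℂ) ≠ 0 := Nat.cast_ne_zero.2 Nat.card_pos.ne'
  rw [theta, indFun_apply, Finset.sum_congr rfl (fun x _ => hterm x), Finset.sum_add_distrib,
    hs, show ∑ x : G, extendByZero D.C v₂ (D.b⁻¹ * x) = ∑ x : G, extendByZero D.C v₂ x from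
      Equiv.sum_comp (Equiv.mulLeft D.b⁻¹) (extendByZero D.C v₂), hs, hv₁, hv₂]
  simp only [Finset.sum_const, Finset.card_univ, nsmul_eq_mul, ← Nat.card_eq_fintype_card]
  field_simp
  ring

theorem classInner_theta {μ : D.C →* ℂˣ} [Fintype D.C] {χ : G → ℂ}
    (hχ : Cfsg.IsClassFunction G χ) :
    Cfsg.classInner (D.theta μ) χ = Cfsg.classInner (D.seed μ) fun h : D.C => χ h :=
  classInner_indFun_left D.C _ hχ

theorem mu_fun_ne_one {μ : D.C →* ℂˣ} (hμa : orderOf (μ ⟨D.a, D.a_mem_C⟩) = 2 * D.k) :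
    (fun c : D.C => (μ c : ℂ)) ≠ fun _ => 1 := by
  intro h
  have h1 : μ ⟨D.a, D.a_mem_C⟩ = 1 := Units.ext (congrFun h _)
  rw [h1, orderOf_one] at hμa
  have := D.k_pos
  omega

theorem theta_inner_one {μ : D.C →* ℂˣ} (hμa : orderOf (μ ⟨D.a, D.a_mem_C⟩) = 2 * D.k) :
    Cfsg.classInner (D.theta μ) (fun _ => 1) = 1 := by
  haveI : Fintype D.C := Fintype.ofFinite _
  rw [D.classInner_theta (IsCharacter.isClassFunction isCharacter_one), seed_eq,
    classInner_sub_left, classInner_self_irr isIrrCharacter_one,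
    classInner_irr_of_ne (isIrrCharacter_linear μ) isIrrCharacter_one (D.mu_fun_ne_one hμa),
    sub_zero]

theorem theta_norm (hR : RankOne G) {μ : D.C →* ℂˣ} (hexp : ∀ c, μ c ^ (2 * D.k) = 1)
    (hμa : orderOf (μ ⟨D.a, D.a_mem_C⟩) = 2 * D.k) :
    Cfsg.classInner (D.theta μ) (D.theta μ) = if D.k = 1 then 4 else 3 := by
  classical
  haveI : Fintype D.C := Fintype.ofFinite _
  set m : D.C → ℂ := fun c => (μ c : ℂ) with hm
  set m' : D.C → ℂ := fun c => ((μ⁻¹ : D.C →* ℂˣ) c : ℂ) with hm'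
  set one : D.C → ℂ := fun _ => 1 with hone
  rw [D.classInner_theta (IsGeneralizedCharacter.isClassFunction (D.theta_isGen μ))]
  have h1 : Cfsg.classInner (D.seed μ) (fun h : D.C => D.theta μ h) =
      Cfsg.classInner (D.seed μ) (one + one - m - m') := by
    unfold Cfsg.classInner
    congr 1
    refine Finset.sum_congr rfl fun c _ => ?_
    rcases eq_or_ne (μ c) 1 with h | h
    · simp [seed, h]
    · simp only [D.theta_C hR hexp c h]
      congr 2
      simp only [Pi.sub_apply, Pi.add_apply, hone, hm, hm', MonoidHom.inv_apply]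
      ring
  have i1 : IsIrrCharacter D.C one := isIrrCharacter_one
  have i2 : IsIrrCharacter D.C m := isIrrCharacter_linear μ
  have i3 : IsIrrCharacter D.C m' := isIrrCharacter_linear μ⁻¹
  have n1 : m ≠ one := D.mu_fun_ne_one hμa
  have n2 : m' ≠ one := D.mu_fun_ne_one (μ := μ⁻¹) (by rw [MonoidHom.inv_apply, orderOf_inv, hμa])
  have heq : m = m' ↔ D.k = 1 := by
    constructor
    · intro h
      have h2 : μ ⟨D.a, D.a_mem_C⟩ ^ 2 = 1 := by
        rw [pow_two]
        have h' : μ ⟨D.a, D.a_mem_C⟩ = (μ⁻¹ : D.C →* ℂˣ) ⟨D.a, D.a_mem_C⟩ :=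
          Units.ext (congrFun h _)
        rw [MonoidHom.inv_apply] at h'
        nth_rw 1 [h']
        exact inv_mul_cancel _
      have h3 := orderOf_dvd_of_pow_eq_one h2
      rw [hμa] at h3
      have := Nat.le_of_dvd two_pos h3
      have := D.k_pos
      omega
    · intro hk
      funext c
      have h := hexp c
      rw [hk, mul_one, pow_two] at h
      simp only [hm, hm', MonoidHom.inv_apply, inv_eq_of_mul_eq_one_right h]
  rw [h1, D.seed_eq μ, ← hm, ← hone]
  simp only [classInner_sub_left, classInner_sub_right, classInner_add_right]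
  rw [classInner_self_irr i1, classInner_self_irr i2, classInner_irr_of_ne i1 i2 n1.symm,
    classInner_irr_of_ne i1 i3 n2.symm, classInner_irr_of_ne i2 i1 n1]
  by_cases hk : D.k = 1
  · rw [if_pos hk, ← heq.2 hk, classInner_self_irr i2]; norm_num
  · rw [if_neg hk, classInner_irr_of_ne i2 i3 (fun h => hk (heq.1 h))]; norm_num

end Data

end Cfsg.Agent.BrauerSuzuki
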