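import Cfsg.Agent.Lib.BrauerSuzuki.ZStar

/-!
The Z*-theorem for elements of two-power order.
-/

set_option autoImplicit false
set_option linter.style.haveILetI false
set_option linter.unusedSectionVars false

namespace Cfsg.Agent.BrauerSuzuki

open Cfsg

universe u

/-- A 2-element which is the only one of its conjugates in any 2-group containing it. -/
def Fixed {G : Type u} [Group G] (x : G) : Prop :=
  ∀ T : Subgroup G, IsPGroup 2 T → x ∈ T → ∀ g : G, g * x * g⁻¹ ∈ T → g * x * g⁻¹ = x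

variable {G : Type u} [Group G] [Finite G]

theorem fixed_of_sylow {S : Sylow 2 G} {x : G} (hxS : x ∈ (S : Subgroup G))
    (h : ∀ g : G, g * x * g⁻¹ ∈ (S : Subgroup G) → g * x * g⁻¹ = x) : Fixed x := by
  intro T hT hxT g hg
  obtain ⟨P, hP⟩ := hT.exists_le_sylow
  haveI : Fact (Nat.Prime 2) := ⟨Nat.prime_two⟩
  obtain ⟨k, hk⟩ := MulAction.exists_smul_eq G P S
  have hm : ∀ {z}, z ∈ (P : Subgroup G) → k * z * k⁻¹ ∈ (S : Subgroup G) := by
    intro z hz
    rw [← hk, Sylow.coe_subgroup_smul]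
    exact Subgroup.smul_mem_pointwise_smul z (MulAut.conj k) _ hz
  have h1 := h k (hm (hP hxT))
  have e : k * g * x * (k * g)⁻¹ = k * (g * x * g⁻¹) * k⁻¹ := by group
  have h2 := h (k * g) (by rw [e]; exact hm (hP hg))
  rw [e] at h2
  exact mul_left_cancel (mul_right_cancel (h2.trans h1.symm))

theorem Fixed.commute {x : G} (h : Fixed x) {T : Subgroup G} (hT : IsPGroup 2 T) (hx : x ∈ T)
    {y : G} (hy : y ∈ T) : Commute y x :=
  mul_inv_eq_iff_eq_mul.1 (h T hT hx y (mul_mem (mul_mem hy hx) (inv_mem hy)))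

theorem Fixed.quotient {x : G} (h : Fixed x) {i : ℕ} (hx : orderOf x = 2 ^ i) (O : Subgroup G)
    [O.Normal] (hO : ¬ 2 ∣ Nat.card O) : Fixed (x : G ⧸ O) := by
  haveI : Fact (Nat.Prime 2) := ⟨Nat.prime_two⟩
  intro Tb hTb hxTb gb
  induction gb using QuotientGroup.induction_on with
  | _ g =>
  intro hg
  set y := g * x * g⁻¹ with hy
  have hyb : (g : G ⧸ O) * (x : G ⧸ O) * (g : G ⧸ O)⁻¹ = (y : G ⧸ O) := by
    rw [hy, QuotientGroup.mk_mul, QuotientGroup.mk_mul, QuotientGroup.mk_inv]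
  rw [hyb] at hg ⊢
  have hyo : orderOf y = 2 ^ i := (orderOf_conj_eq g x).trans hx
  set R := Tb.comap (QuotientGroup.mk' O) with hR
  obtain ⟨T, hT⟩ := (IsPGroup.of_card (n := i)
    (by rw [Nat.card_zpowers, ← Subgroup.orderOf_coe]; exact hx) :
    IsPGroup 2 (Subgroup.zpowers (⟨x, hxTb⟩ : R))).exists_le_sylow
  obtain ⟨T', hT'⟩ := (IsPGroup.of_card (n := i)
    (by rw [Nat.card_zpowers, ← Subgroup.orderOf_coe]; exact hyo) :
    IsPGroup 2 (Subgroup.zpowers (⟨y, hg⟩ : R))).exists_le_sylow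
  obtain ⟨r, hr⟩ := MulAction.exists_smul_eq R T' T
  have hm : r * ⟨y, hg⟩ * r⁻¹ ∈ (T : Subgroup R) := by
    rw [← hr, Sylow.coe_subgroup_smul]
    exact Subgroup.smul_mem_pointwise_smul _ (MulAut.conj r) _ (hT' (Subgroup.mem_zpowers _))
  have he : (r : G) * y * (r : G)⁻¹ = x := by
    have e : (r : G) * g * x * ((r : G) * g)⁻¹ = (r : G) * y * (r : G)⁻¹ := by rw [hy]; group
    rw [← e]
    exact h _ (T.2.map R.subtype) ⟨⟨x, hxTb⟩, hT (Subgroup.mem_zpowers _), rfl⟩ _
      ⟨_, hm, by rw [e]; simp⟩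
  -- the Sylow subgroup maps onto the image
  have hcomm : Commute ((r : G) : G ⧸ O) (x : G ⧸ O) := by
    let f : R →* Tb := ((QuotientGroup.mk' O).comp R.subtype).codRestrict Tb (fun a => a.2)
    have hf : Function.Surjective f := by
      rintro ⟨a, ha⟩
      obtain ⟨b, rfl⟩ := QuotientGroup.mk'_surjective O a
      exact ⟨⟨b, ha⟩, rfl⟩
    have htop : (T : Subgroup R).map f = ⊤ := by
      have h1 := (Sylow.mapSurjective hf T).is_maximal'
        (Q := (⊤ : Subgroup Tb)) (hTb.of_equiv Subgroup.topEquiv.symm) le_top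
      rw [Sylow.coe_mapSurjective] at h1
      exact h1.symm
    obtain ⟨t, ht, hrt⟩ : f r ∈ (T : Subgroup R).map f := htop ▸ Subgroup.mem_top _
    have h1 : Commute (t : G) x := h.commute (T.2.map R.subtype)
      ⟨⟨x, hxTb⟩, hT (Subgroup.mem_zpowers _), rfl⟩ ⟨t, ht, rfl⟩
    have h2 : ((t : G) : G ⧸ O) = ((r : G) : G ⧸ O) := congrArg Subtype.val hrt
    rw [← h2]
    exact h1.map (QuotientGroup.mk' O)
  have h2 := congrArg (QuotientGroup.mk' O) he
  simp only [map_mul, map_inv, QuotientGroup.mk'_apply] at h2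
  calc (y : G ⧸ O) = ((r : G) : G ⧸ O)⁻¹ *
        (((r : G) : G ⧸ O) * (y : G ⧸ O) * ((r : G) : G ⧸ O)⁻¹) * ((r : G) : G ⧸ O) := by group
    _ = (x : G ⧸ O) := by rw [h2, mul_assoc, ← hcomm.eq, inv_mul_cancel_left]

theorem Fixed.quotient_central {x : G} (h : Fixed x) {z : G} (hzo : orderOf z = 2)
    [(Subgroup.zpowers z).Normal] : Fixed (x : G ⧸ Subgroup.zpowers z) := by
  intro Tb hTb hxTb gb
  induction gb using QuotientGroup.induction_on with
  | _ g =>
  intro hg
  have hP : IsPGroup 2 (Tb.comap (QuotientGroup.mk' (Subgroup.zpowers z))) := by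
    refine hTb.comap_of_ker_isPGroup _ ?_
    rw [QuotientGroup.ker_mk']
    exact IsPGroup.of_card (n := 1) (by rw [Nat.card_zpowers, hzo, pow_one])
  have h1 := h _ hP hxTb g hg
  rw [← QuotientGroup.mk_inv, ← QuotientGroup.mk_mul, ← QuotientGroup.mk_mul, h1]

/-- Preimage of the core modulo a central involution. -/
theorem comap_core_eq (hO : pPrimeCore 2 G = ⊥) {z : G} (hzo : orderOf z = 2)
    [(Subgroup.zpowers z).Normal] :
    (pPrimeCore 2 (G ⧸ Subgroup.zpowers z)).comap (QuotientGroup.mk' (Subgroup.zpowers z)) =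
      Subgroup.zpowers z := by
  haveI : Fact (Nat.Prime 2) := ⟨Nat.prime_two⟩
  set Z := Subgroup.zpowers z with hZdef
  have hZc : Nat.card Z = 2 := by rw [hZdef, Nat.card_zpowers, hzo]
  have hRn : (pPrimeCore 2 (G ⧸ Z)).Normal := Cfsg.Agent.FittingCores.pPrimeCore_normal 2
  set N := (pPrimeCore 2 (G ⧸ Z)).comap (QuotientGroup.mk' Z) with hNdef
  have hNn : N.Normal := hRn.comap _
  have hle : Z ≤ N := fun y hy => by
    rw [hNdef, Subgroup.mem_comap, QuotientGroup.mk'_apply, (QuotientGroup.eq_one_iff y).2 hy]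
    exact one_mem _
  have hcardN : Nat.card N = 2 * Nat.card (pPrimeCore 2 (G ⧸ Z)) := by
    have h1 := Subgroup.relIndex_ker (QuotientGroup.mk' Z) (K := N)
    rw [QuotientGroup.ker_mk', hNdef,
      Subgroup.map_comap_eq_self_of_surjective (QuotientGroup.mk'_surjective Z), ← hNdef] at h1
    rw [← h1, ← hZc, ← Subgroup.relIndex_bot_left, ← Subgroup.relIndex_bot_left,
      Subgroup.relIndex_mul_relIndex _ _ _ bot_le hle]
  have hodd : ¬ 2 ∣ Nat.card (pPrimeCore 2 (G ⧸ Z)) := fun h =>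
    Nat.prime_two.coprime_iff_not_dvd.1
      (Cfsg.Agent.FittingCores.pPrimeCore_coprime (G := G ⧸ Z) 2).symm h
  have hNO : pPrimeCore 2 N = ⊥ := by
    have h1 := Cfsg.Agent.FittingCores.pPrimeCore_map_subtype_le 2 hNn
    rw [hO, le_bot_iff, Subgroup.map_eq_bot_iff_of_injective _ N.subtype_injective] at h1
    exact h1
  obtain ⟨T⟩ : Nonempty (Sylow 2 N) := inferInstance
  have hT : Nat.card T = 2 := by
    rw [T.card_eq_multiplicity, hcardN, Nat.factorization_mul (by norm_num) Nat.card_pos.ne',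
      Finsupp.add_apply, Nat.Prime.factorization_self Nat.prime_two,
      Nat.factorization_eq_zero_of_not_dvd hodd]
    norm_num
  haveI : IsCyclic T := isCyclic_of_prime_card (p := 2) hT
  obtain ⟨K, hK, hK2, hKi⟩ := exists_complement T inferInstance (hcardN ▸ dvd_mul_right 2 _)
  have hKb : K = ⊥ := le_bot_iff.1 (hNO ▸ Cfsg.Agent.FittingCores.le_pPrimeCore hK
    ((Nat.prime_two.coprime_iff_not_dvd.2 hK2).symm))
  refine (Subgroup.eq_of_le_of_card_ge hle ?_).symm
  rw [hZc, ← hT, ← hKi, hKb, Subgroup.index_bot]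

/-- The Z*-theorem for 2-elements. -/
theorem zStar_two_element : ∀ (G : Type u) [Group G] [Finite G] (x : G),
    (∃ i, orderOf x = 2 ^ i) → Fixed x → InZStar 2 x := by
  intro G _ _
  induction hn : Nat.card G using Nat.strong_induction_on generalizing G with
  | _ n ih =>
  subst hn
  intro x ⟨i, hi⟩ h
  haveI : Fact (Nat.Prime 2) := ⟨Nat.prime_two⟩
  haveI hOn : (pPrimeCore 2 G).Normal := Cfsg.Agent.FittingCores.pPrimeCore_normal 2
  rcases Nat.eq_zero_or_pos i with rfl | hi0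
  · intro g
    rw [show x = 1 from orderOf_eq_one_iff.1 (by simpa using hi)]
    simp
  by_cases hO : pPrimeCore 2 G = ⊥
  swap
  · have hodd : ¬ 2 ∣ Nat.card (pPrimeCore 2 G) := fun h => Nat.prime_two.coprime_iff_not_dvd.1
      (Cfsg.Agent.FittingCores.pPrimeCore_coprime (G := G) 2).symm h
    have hlt : Nat.card (G ⧸ pPrimeCore 2 G) < Nat.card G := by
      rw [Subgroup.card_eq_card_quotient_mul_card_subgroup (pPrimeCore 2 G)]
      exact lt_mul_of_one_lt_right Nat.card_pos (Subgroup.one_lt_card_iff_ne_bot _ |>.2 hO)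
    have hord : ∃ j, orderOf (x : G ⧸ pPrimeCore 2 G) = 2 ^ j := by
      have h1 : orderOf (x : G ⧸ pPrimeCore 2 G) ∣ orderOf x :=
        orderOf_map_dvd (QuotientGroup.mk' _) x
      rw [hi] at h1
      obtain ⟨j, -, hj⟩ := (Nat.dvd_prime_pow Nat.prime_two).1 h1
      exact ⟨j, hj⟩
    have hq := ih _ hlt (G ⧸ pPrimeCore 2 G) rfl _ hord (h.quotient hi _ hodd)
    intro g
    have h2 := hq (g : G ⧸ pPrimeCore 2 G)
    rw [Cfsg.Agent.FittingCores.pPrimeCore_quotient_eq_bot 2 _ rfl, Subgroup.mem_bot] at h2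
    exact (QuotientGroup.eq_one_iff _).1 h2
  -- the involution among the powers
  set u := x ^ 2 ^ (i - 1) with hu
  have huo : orderOf u = 2 := by
    rw [hu, orderOf_pow_of_dvd (by positivity) (by rw [hi]; exact pow_dvd_pow 2 (by omega)), hi,
      Nat.pow_div (by omega) (by norm_num), show i - (i - 1) = 1 by omega, pow_one]
  obtain ⟨P, hP⟩ := (IsPGroup.of_card (n := i) (by rw [Nat.card_zpowers, hi]) :
    IsPGroup 2 (Subgroup.zpowers x)).exists_le_sylow
  have hxP : x ∈ (P : Subgroup G) := hP (Subgroup.mem_zpowers x)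
  have hiso : IsIsolated u := by
    refine isIsolated_of_sylow huo (pow_mem hxP _) fun g hg => ?_
    set v := g * u * g⁻¹ with hv
    set C := Subgroup.centralizer ({v} : Set G) with hC
    have hxC : x ∈ C :=
      Subgroup.mem_centralizer_singleton_iff.2 (h.commute P.2 hxP hg).symm.eq
    have hyC : g * x * g⁻¹ ∈ C := Subgroup.mem_centralizer_singleton_iff.2
      (by simpa [hv, hu] using (((Commute.refl x).pow_right (2 ^ (i - 1))).map
        (MulAut.conj g).toMonoidHom).eq)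
    obtain ⟨T, hT⟩ := (IsPGroup.of_card (n := i)
      (by rw [Nat.card_zpowers, ← Subgroup.orderOf_coe]; exact hi) :
      IsPGroup 2 (Subgroup.zpowers (⟨x, hxC⟩ : C))).exists_le_sylow
    obtain ⟨T', hT'⟩ := (IsPGroup.of_card (n := i)
      (by rw [Nat.card_zpowers, ← Subgroup.orderOf_coe]; exact (orderOf_conj_eq g x).trans hi) :
      IsPGroup 2 (Subgroup.zpowers (⟨g * x * g⁻¹, hyC⟩ : C))).exists_le_sylow
    obtain ⟨r, hr⟩ := MulAction.exists_smul_eq C T' T
    have hm : r * ⟨g * x * g⁻¹, hyC⟩ * r⁻¹ ∈ (T : Subgroup C) := by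
      rw [← hr, Sylow.coe_subgroup_smul]
      exact Subgroup.smul_mem_pointwise_smul _ (MulAut.conj r) _ (hT' (Subgroup.mem_zpowers _))
    have he := h _ (T.2.map C.subtype) ⟨⟨x, hxC⟩, hT (Subgroup.mem_zpowers _), rfl⟩ ((r : G) * g)
      ⟨_, hm, by simp [mul_assoc]⟩
    have he2 : (r : G) * g * u * ((r : G) * g)⁻¹ = u := by
      rw [hu, ← conj_pow, he]
    have hrv : (r : G) * v * (r : G)⁻¹ = v := by
      rw [Subgroup.mem_centralizer_singleton_iff.1 r.2, mul_inv_cancel_right]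
    rw [← hrv, hv]
    calc (r : G) * (g * u * g⁻¹) * (r : G)⁻¹ = (r : G) * g * u * ((r : G) * g)⁻¹ := by group
      _ = u := he2
  have huc : u ∈ Subgroup.center G := by
    rw [Subgroup.mem_center_iff]
    intro g
    have h2 := zStar G u huo hiso g
    rw [hO, Subgroup.mem_bot] at h2
    exact mul_inv_eq_iff_eq_mul.1 (mul_inv_eq_one.1 h2)
  haveI hzn : (Subgroup.zpowers u).Normal := ⟨fun y hy g => by
    have hyc : y ∈ Subgroup.center G := Subgroup.zpowers_le.2 huc hy
    rwa [Subgroup.mem_center_iff.1 hyc g, mul_inv_cancel_right]⟩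
  have hlt : Nat.card (G ⧸ Subgroup.zpowers u) < Nat.card G := by
    rw [Subgroup.card_eq_card_quotient_mul_card_subgroup (Subgroup.zpowers u), Nat.card_zpowers,
      huo]
    have : 0 < Nat.card (G ⧸ Subgroup.zpowers u) := Nat.card_pos
    omega
  have hord : ∃ j, orderOf (x : G ⧸ Subgroup.zpowers u) = 2 ^ j := by
    have h1 : orderOf (x : G ⧸ Subgroup.zpowers u) ∣ orderOf x :=
      orderOf_map_dvd (QuotientGroup.mk' _) x
    rw [hi] at h1
    obtain ⟨j, -, hj⟩ := (Nat.dvd_prime_pow Nat.prime_two).1 h1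
    exact ⟨j, hj⟩
  have hq := ih _ hlt (G ⧸ Subgroup.zpowers u) rfl _ hord (h.quotient_central huo)
  intro g
  have h2 : g * x * g⁻¹ * x⁻¹ ∈ (pPrimeCore 2 (G ⧸ Subgroup.zpowers u)).comap
      (QuotientGroup.mk' (Subgroup.zpowers u)) := hq (g : G ⧸ Subgroup.zpowers u)
  rw [comap_core_eq hO huo] at h2
  have h3 : g * x * g⁻¹ ∈ Subgroup.zpowers x := by
    have h4 := mul_mem (Subgroup.zpowers_le.2 (pow_mem (Subgroup.mem_zpowers x) _) h2)
      (Subgroup.mem_zpowers x)
    rwa [inv_mul_cancel_right] at h4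
  have h5 := h (Subgroup.zpowers x)
    (IsPGroup.of_card (n := i) (by rw [Nat.card_zpowers, hi])) (Subgroup.mem_zpowers x) g h3
  rw [h5, mul_inv_cancel]
  exact one_mem _

end Cfsg.Agent.BrauerSuzuki
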